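import Groth.Agent.RootDat.Dom
import Mathlib.LinearAlgebra.RootSystem.Base

/-! Bases over `ℤ` give simple systems; rank facts. -/

namespace Groth.Agent.RootDat.BaseB

open RootPairing Function Form RootD Pos Weyl Exist Ind

variable {ι M N : Type*} [AddCommGroup M] [AddCommGroup N] {P : RootPairing ι ℤ M N} [Finite ι]

omit [Finite ι] in
theorem isSimpleSys_base (b : P.Base) : IsSimpleSys P (b.support : Set ι) :=
  ⟨b.linearIndepOn_root, fun i => b.root_mem_or_neg_mem i⟩

omit [Finite ι] in
theorem height_eq (b : P.Base) {i : ι} {c : ι →₀ ℤ} (hc : ↑c.support ⊆ (b.support : Set ι))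
    (he : Finsupp.linearCombination ℤ P.root c = P.root i) : b.height i = c.sum fun _ a => a := by
  have hc' : c.support ⊆ b.support := Finset.coe_subset.mp hc
  rw [RootPairing.Base.height_eq_sum (f := c)]
  · rw [Finsupp.sum]
    exact (Finset.sum_subset hc' fun x _ hx => Finsupp.notMem_support_iff.mp hx).symm
  · rw [← he, Finsupp.linearCombination_apply, Finsupp.sum]
    exact Finset.sum_subset hc' fun x _ hx => by simp [Finsupp.notMem_support_iff.mp hx]

omit [Finite ι] in
theorem isPos_iff_posOf (b : P.Base) (i : ι) : b.IsPos i ↔ i ∈ posOf P (b.support : Set ι) := by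
  constructor
  · intro h
    refine ((isSimpleSys_base b).mem_or_neg_mem i).resolve_right fun h' => ?_
    obtain ⟨c, hc, hc0, hce⟩ := natSpan_coeff P h'
    have h1 := height_eq b (c := -c) (by simpa using hc) (by rw [map_neg, hce, neg_neg])
    rw [RootPairing.Base.isPos_iff, h1, Finsupp.sum_neg_index (fun _ => rfl)] at h
    have : 0 ≤ c.sum fun _ a => a := Finset.sum_nonneg fun j _ => hc0 j
    simp only [Finsupp.sum, Finset.sum_neg_distrib] at h this ⊢
    omega
  · intro h
    obtain ⟨c, hc, hc0, hce⟩ := natSpan_coeff P (h : P.root i ∈ natSpan P _)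
    rw [RootPairing.Base.isPos_iff, height_eq b hc hce]
    exact coeff_total_pos hc0 fun hz => root_ne_zero P i (by rw [← hce, hz, map_zero])

theorem simple_perm (b : P.Base) [P.IsReduced] {a j : ι} (ha : a ∈ (b.support : Set ι))
    (hj : b.IsPos j) (hne : j ≠ a) : b.IsPos (P.reflectionPerm a j) := by
  rw [isPos_iff_posOf] at hj ⊢
  refine refl_pos P (isSimpleSys_base b) hj ha ?_
  rintro ⟨c, hc⟩
  rcases multiple_of_posOf P (isSimpleSys_base b) hj ha hc with rfl | rfl
  · exact hne (P.root.injective (by rw [hc, one_smul]))
  · have h1 : LinearIndependent ℤ ![P.root j, P.root a] := by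
      refine RootPairing.IsReduced.linearIndependent P hne fun e => ?_
      rw [hc] at e
      have : (3 : ℤ) • P.root a = 0 := by
        rw [show (3 : ℤ) = 2 + 1 from rfl, add_smul, e, one_smul]; abel
      exact root_ne_zero P a (eq_zero_of_zsmul P (by norm_num) this)
    have := (LinearIndependent.pair_iff.mp h1) 1 (-2) (by rw [hc]; module)
    exact one_ne_zero this.1

section Rank

variable (P) [Fintype ι]

omit [Finite ι] in
theorem ker_pol : LinearMap.ker P.Polarization = ⨅ i : ι, LinearMap.ker (P.coroot' i) := by
  ext x
  simp only [LinearMap.mem_ker, Submodule.mem_iInf]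
  constructor
  · intro hx i
    have h : B P x x = 0 := by
      rw [B, ← P.toLinearMap_apply_apply_Polarization, hx, map_zero]
    rw [B_def, Finset.sum_eq_zero_iff_of_nonneg (fun j _ => mul_self_nonneg _)] at h
    exact mul_self_eq_zero.mp (h i (Finset.mem_univ i))
  · intro hx
    simp [P.Polarization_apply, hx]

omit [Finite ι] in
theorem span_le_range :
    Module.finrank ℤ (Submodule.span ℤ (Set.range P.root)) ≤
      Module.finrank ℤ (LinearMap.range P.Polarization) := by
  have : Module.Finite ℤ (Submodule.span ℤ (Set.range P.root)) :=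
    Module.Finite.span_of_finite ℤ (Set.finite_range _)
  have : Module.Finite ℤ (LinearMap.range P.Polarization) := by
    refine Module.Finite.iff_fg.mpr ?_
    have hle : LinearMap.range P.Polarization ≤ Submodule.span ℤ (Set.range P.coroot) := by
      rintro _ ⟨x, rfl⟩
      rw [P.Polarization_apply]
      exact sum_mem fun i _ => Submodule.smul_mem _ _ (Submodule.subset_span (Set.mem_range_self i))
    have : Module.Finite ℤ (Submodule.span ℤ (Set.range P.coroot)) :=
      Module.Finite.span_of_finite ℤ (Set.finite_range _)
    exact Submodule.FG.of_le (Module.Finite.iff_fg.mp this) hle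
  let T : Submodule.span ℤ (Set.range P.root) →ₗ[ℤ] LinearMap.range P.Polarization :=
    (P.Polarization.rangeRestrict).comp (Submodule.subtype _)
  refine LinearMap.finrank_le_finrank_of_injective (f := T) ?_
  refine (injective_iff_map_eq_zero _).mpr fun ⟨x, hx⟩ h => Subtype.ext ?_
  have h' : P.Polarization x = 0 := congrArg Subtype.val h
  refine eq_zero_of_B_self P hx ?_
  rw [B, ← P.toLinearMap_apply_apply_Polarization, h', map_zero]

omit [Finite ι] in
theorem range_le_span :
    Module.finrank ℤ (LinearMap.range P.Polarization) ≤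
      Module.finrank ℤ (Submodule.span ℤ (Set.range P.coroot)) := by
  have : Module.Finite ℤ (Submodule.span ℤ (Set.range P.coroot)) :=
    Module.Finite.span_of_finite ℤ (Set.finite_range _)
  refine Submodule.finrank_mono ?_
  rintro _ ⟨x, rfl⟩
  rw [P.Polarization_apply]
  exact sum_mem fun i _ => Submodule.smul_mem _ _ (Submodule.subset_span (Set.mem_range_self i))

omit [Finite ι] in
theorem range_eq :
    Module.finrank ℤ (LinearMap.range P.Polarization) =
      Module.finrank ℤ (Submodule.span ℤ (Set.range P.root)) := by
  have h1 := span_le_range P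
  have h2 := range_le_span P
  have h3 := span_le_range P.flip
  have h4 := range_le_span P.flip
  change Module.finrank ℤ (Submodule.span ℤ (Set.range P.coroot)) ≤ _ at h3
  change _ ≤ Module.finrank ℤ (Submodule.span ℤ (Set.range P.root)) at h4
  omega

omit [Finite ι] in
theorem rank_add [Module.Finite ℤ M] :
    Module.finrank ℤ (⨅ i : ι, LinearMap.ker (P.coroot' i) : Submodule ℤ M) +
      Module.finrank ℤ (Submodule.span ℤ (Set.range P.root)) = Module.finrank ℤ M := by
  rw [← ker_pol P, ← range_eq P, ← LinearEquiv.finrank_eq P.Polarization.quotKerEquivRange,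
    add_comm]
  exact Submodule.finrank_quotient_add_finrank _

omit [Finite ι] in
theorem ss_iff [Module.Finite ℤ M] :
    Module.finrank ℤ (Submodule.span ℤ (Set.range P.root)) = Module.finrank ℤ M ↔
      (⨅ i : ι, LinearMap.ker (P.coroot' i) : Submodule ℤ M) = ⊥ := by
  have := tf_left P
  have : Module.IsReflexive ℤ M := .of_isPerfPair P.toLinearMap
  have h := rank_add P
  constructor
  · intro he
    exact Submodule.finrank_eq_zero.mp (by omega)
  · intro he
    rw [he, finrank_bot] at h
    omega

end Rank

end Groth.Agent.RootDat.BaseB
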