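import Groth.Agent.RootDat.Trans

/-! Orthogonality components and closed partitions. -/

namespace Groth.Agent.RootDat.Comb

open RootPairing Function Form RootD Pos Weyl Exist Trans

variable {ι M N : Type*} [AddCommGroup M] [AddCommGroup N] (P : RootPairing ι ℤ M N) [Finite ι]

/-- Connected by a chain of non-orthogonal roots. -/
def Comp (i : ι) : Set ι :=
  {j : ι | Relation.ReflTransGen (fun a b : ι => ¬ P.IsOrthogonal a b) i j}

theorem not_orth_neg (i : ι) : ¬ P.IsOrthogonal i (P.reflectionPerm i i) := fun h => by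
  have := h.1
  simp at this

theorem mem_of_partition {R' : Set ι} (hc : IsClosedSub P R') (hs : IsSymmSub P R')
    (hc' : IsClosedSub P R'ᶜ) (hs' : IsSymmSub P R'ᶜ) {i j : ι} (hi : i ∈ R')
    (hij : ¬ P.IsOrthogonal i j) : j ∈ R' := by
  have := Fintype.ofFinite ι
  by_contra hj
  rcases lt_trichotomy (P.pairing i j) 0 with h | h | h
  · have hne : P.root i ≠ -P.root j := fun e => by
      have := root_eq_neg P e
      exact hs' hj (this ▸ hi)
    obtain ⟨k, hk⟩ := exists_add_root P h hne
    by_cases hkR : k ∈ R'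
    · exact hj (hc hkR (hs hi) (by rw [root_neg, hk]; abel))
    · exact hc' hkR (hs' hj) (by rw [root_neg, hk]; abel : P.root i = _) hi
  · exact hij (isOrth_of_pairing P h)
  · obtain ⟨k, hk⟩ := exists_sub_root P h (fun e => hj (e ▸ hi))
    by_cases hkR : k ∈ R'
    · have h1 : P.reflectionPerm j j ∈ R' :=
        hc hkR (hs hi) (by rw [root_neg, root_neg, hk]; abel)
      exact hs' hj h1
    · exact hc' hkR hj (by rw [hk]; abel : P.root i = _) hi

theorem mem_of_partition' {R' : Set ι} (hc : IsClosedSub P R') (hs : IsSymmSub P R')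
    (hc' : IsClosedSub P R'ᶜ) (hs' : IsSymmSub P R'ᶜ) {i j : ι}
    (hij : ¬ P.IsOrthogonal i j) : i ∈ R' ↔ j ∈ R' :=
  ⟨fun h => mem_of_partition P hc hs hc' hs' h hij,
   fun h => mem_of_partition P hc hs hc' hs' h fun e => hij e.symm⟩

omit [Finite ι] in
theorem span_disjoint {Δ A B : Set ι} (hΔ : LinearIndepOn ℤ P.root Δ) (hA : A ⊆ Δ) (hB : B ⊆ Δ)
    (hAB : ∀ a ∈ A, a ∉ B) :
    Disjoint (Submodule.span ℤ (P.root '' A)) (Submodule.span ℤ (P.root '' B)) := by
  rw [Submodule.disjoint_def]
  intro x h1 h2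
  obtain ⟨c, hc, rfl⟩ := (Finsupp.mem_span_image_iff_linearCombination ℤ).mp h1
  obtain ⟨d, hd, he⟩ := (Finsupp.mem_span_image_iff_linearCombination ℤ).mp h2
  have hcd := coeff_unique P hΔ (hd.trans hB) (hc.trans hA) he
  subst hcd
  have : d = 0 := by
    ext a
    by_contra hne
    have := Finsupp.mem_support_iff.mpr hne
    exact hAB a (hc this) (hd this)
  simp [this]

omit [Finite ι] in
theorem comp_symm {i j : ι} (h : j ∈ Comp P i) : i ∈ Comp P j := by
  induction h with
  | refl => exact .refl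
  | tail _ hbc ih => exact Relation.ReflTransGen.head (fun e => hbc e.symm) ih

omit [Finite ι] in
theorem sum_not_orth {i j k : ι} (h : P.root k = P.root i + P.root j) :
    ¬ P.IsOrthogonal k i ∨ ¬ P.IsOrthogonal k j := by
  by_contra hc
  push Not at hc
  have := P.pairing_eq_add_of_root_eq_add (l := k) h
  rw [P.pairing_same, hc.1.2, hc.2.2] at this
  omega

theorem comp_props (i : ι) :
    IsClosedSub P (Comp P i) ∧ IsSymmSub P (Comp P i) ∧
      IsClosedSub P (Comp P i)ᶜ ∧ IsSymmSub P (Comp P i)ᶜ := by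
  have hn : ∀ a, P.reflectionPerm a a ∈ Comp P i ↔ a ∈ Comp P i := fun a =>
    ⟨fun h => h.tail fun e => not_orth_neg P a e.symm, fun h => h.tail (not_orth_neg P a)⟩
  refine ⟨fun a b k ha hb h => ?_, fun a ha => (hn a).mpr ha, fun a b k ha hb h hk => ?_,
    fun a ha h => ha ((hn a).mp h)⟩
  · rcases sum_not_orth P h with e | e
    · exact ha.tail fun e' => e e'.symm
    · exact hb.tail fun e' => e e'.symm
  · rcases sum_not_orth P h with e | e
    · exact ha (hk.tail e)
    · exact hb (hk.tail e)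

end Groth.Agent.RootDat.Comb
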