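import Groth.Agent.RootDat.Ind

/-! Dominant vectors and functionals. -/

namespace Groth.Agent.RootDat.Dom

open RootPairing Function Form RootD Pos Weyl Exist Ind

variable {ι M N : Type*} [AddCommGroup M] [AddCommGroup N] (P : RootPairing ι ℤ M N) [Finite ι]

theorem finite_weylGroup : Finite P.weylGroup := by
  have := Fintype.ofFinite ι
  refine Finite.of_injective P.weylGroupToPerm ((injective_iff_map_eq_one _).mpr fun g hg => Subtype.ext ?_)
  refine eq_one_of_fix P (g := (g : P.Aut)) (fun i => Equiv.congr_fun hg i) fun m => ⟨1, one_pos, ?_⟩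
  rw [one_smul]
  exact sub_smul_mem_span P g.2 m

theorem pairing_nonneg_of_simple [Fintype ι] {Δ : Set ι} {x : M}
    (hx : ∀ a ∈ Δ, 0 ≤ P.coroot' a x) {k : ι} (hk : k ∈ posOf P Δ) : 0 ≤ P.coroot' k x := by
  by_contra hc
  rw [not_le, ← B_neg_iff] at hc
  have : 0 ≤ B P x (P.root k) :=
    natSpan_le P (K :=
      { carrier := {y | 0 ≤ B P x y}
        add_mem' := fun {y z} hy hz => by
          simp only [Set.mem_ofPred_eq, B, map_add] at hy hz ⊢
          omega
        zero_mem' := by simp [B] }) (fun i hi => by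
          show 0 ≤ B P x (P.root i)
          by_contra hc'
          rw [not_le, B_neg_iff] at hc'
          exact absurd hc' (not_lt.mpr (hx i hi))) hk
  omega

/-- The sum of the positive roots. -/
noncomputable def rho [Fintype ι] (S : Set ι) : M := by
  classical exact ∑ i ∈ Finset.univ.filter (fun i => i ∈ S), P.root i

theorem rho_pos [Fintype ι] {S : Set ι} (hS : IsPosSys P S) {i : ι} (hi : i ∈ S) :
    0 < P.coroot' i (rho P S) := by
  classical
  have hΔ := isSimpleSys_indec P hS
  have hpo := posOf_indec P hS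
  have hsimp : ∀ a ∈ Indec P S, 0 < P.coroot' a (rho P S) := by
    intro a ha
    let F := Finset.univ.filter (fun i => i ∈ S)
    let F₁ := F.filter fun j => ∃ c : ℤ, P.root j = c • P.root a
    let F₀ := F.filter fun j => ¬ ∃ c : ℤ, P.root j = c • P.root a
    have hsplit : rho P S = ∑ j ∈ F₁, P.root j + ∑ j ∈ F₀, P.root j :=
      (Finset.sum_filter_add_sum_filter_not F _ _).symm
    have hperm : ∀ j ∈ F₀, P.reflectionPerm a j ∈ F₀ := by
      intro j hj
      obtain ⟨hjF, hjn⟩ := Finset.mem_filter.mp hj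
      have hjS : j ∈ S := (Finset.mem_filter.mp hjF).2
      refine Finset.mem_filter.mpr ⟨Finset.mem_filter.mpr ⟨Finset.mem_univ _, ?_⟩, ?_⟩
      · rw [← hpo]; exact refl_pos P hΔ (k := j) (by rw [hpo]; exact hjS) ha hjn
      · rintro ⟨c, hc⟩
        refine hjn ⟨-c, ?_⟩
        rw [← P.reflectionPerm_self a j, P.root_reflectionPerm, hc, map_zsmul,
          P.reflection_apply_self, smul_neg, neg_smul]
    have h0 : P.coroot' a (∑ j ∈ F₀, P.root j) = 0 := by
      have hre : P.reflection a (∑ j ∈ F₀, P.root j) = ∑ j ∈ F₀, P.root j := by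
        rw [map_sum]
        refine Finset.sum_bij' (fun j _ => P.reflectionPerm a j) (fun j _ => P.reflectionPerm a j)
          (fun j hj => hperm j hj) (fun j hj => hperm j hj) (fun j _ => P.reflectionPerm_self a j)
          (fun j _ => P.reflectionPerm_self a j) (fun j _ => (P.root_reflectionPerm a j).symm)
      rw [P.reflection_apply, sub_eq_self] at hre
      by_contra hne
      exact root_ne_zero P a (eq_zero_of_zsmul P hne hre)
    have h1 : 0 < P.coroot' a (∑ j ∈ F₁, P.root j) := by
      rw [map_sum]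
      refine Finset.sum_pos (fun j hj => ?_) ⟨a, ?_⟩
      · obtain ⟨hjF, c, hc⟩ := Finset.mem_filter.mp hj
        have hjS : j ∈ S := (Finset.mem_filter.mp hjF).2
        rw [hc, map_zsmul, P.root_coroot'_eq_pairing, P.pairing_same, smul_eq_mul]
        have := multiple_of_posOf P hΔ (k := j) (by rw [hpo]; exact hjS) ha hc
        omega
      · exact Finset.mem_filter.mpr
          ⟨Finset.mem_filter.mpr ⟨Finset.mem_univ _, ha.1⟩, 1, (one_smul ℤ _).symm⟩
    rw [hsplit, map_add, h0, add_zero]
    exact h1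
  refine lt_of_le_of_ne
    (pairing_nonneg_of_simple P (Δ := Indec P S) (fun a ha => (hsimp a ha).le) (by rw [hpo]; exact hi))
    fun h => ?_
  obtain ⟨c, hc, hc0, hce⟩ := natSpan_coeff P (mem_natSpan_indec P (posClosed hS) (fun _ h => hS.disjoint h) hi)
  have hB : B P (rho P S) (P.root i) = 0 := (B_eq_zero_iff P _ _).mpr h.symm
  rw [← hce, Finsupp.linearCombination_apply, Finsupp.sum] at hB
  simp only [B, map_sum, map_zsmul, smul_eq_mul] at hB
  have hpos : 0 < ∑ a ∈ c.support, c a * B P (rho P S) (P.root a) := by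
    refine Finset.sum_pos (fun a ha => mul_pos ?_ ((B_pos_iff P _ _).mpr (hsimp a (hc ha)))) ?_
    · exact lt_of_le_of_ne (hc0 a) (Ne.symm (Finsupp.mem_support_iff.mp ha))
    · rw [Finsupp.support_nonempty_iff]
      intro hz
      exact root_ne_zero P i (by rw [← hce, hz, map_zero])
  exact hpos.ne' hB

theorem exists_dominant_conj [Fintype ι] {S : Set ι} (hS : IsPosSys P S) (m : M) :
    ∃ g : P.Aut, g ∈ P.weylGroup ∧ ∀ i ∈ S, 0 ≤ P.coroot' i (g • m) := by
  have := finite_weylGroup P
  obtain ⟨⟨g, hg⟩, hmax⟩ := Finite.exists_max fun w : P.weylGroup => B P ((w : P.Aut) • m) (rho P S)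
  refine ⟨g, hg, fun i hi => ?_⟩
  have h := hmax ⟨RootPairing.Equiv.reflection P i * g, mul_mem (P.reflection_mem_weylGroup i) hg⟩
  simp only [mul_smul, refl_smul, P.reflection_apply, B, map_sub, map_zsmul, LinearMap.sub_apply,
    LinearMap.smul_apply, smul_eq_mul] at h
  have hp : 0 < B P (P.root i) (rho P S) := by rw [B_comm, B_pos_iff]; exact rho_pos P hS hi
  by_contra hc
  have := mul_neg_of_neg_of_pos (not_le.mp hc) hp
  simp only [B] at this
  linarith

variable {Γ : Type*} [AddCommGroup Γ]

theorem zsmul_sign [LinearOrder Γ] [IsOrderedAddMonoid Γ] {n : ℤ} {x : Γ} (hn : 0 ≤ n)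
    (hx : 0 ≤ x) : 0 ≤ n • x := zsmul_nonneg hx hn

theorem telescope [LinearOrder Γ] [IsOrderedAddMonoid Γ] [Fintype ι] {S : Set ι} (hS : IsPosSys P S)
    (f : M →+ Γ) (hf : ∀ i ∈ S, 0 ≤ f (P.root i)) {g : P.Aut} (hg : g ∈ P.weylGroup) :
    ∃ c : ι → Γ, (∀ i, 0 ≤ c i) ∧ (∀ i, i ∉ S → c i = 0) ∧
      ∀ m : M, f m - f (g • m) = ∑ i, (P.coroot' i m) • c i := by
  classical
  have hΔ := isSimpleSys_indec P hS
  rw [← closure_simple P hΔ] at hg
  obtain ⟨l, hl, rfl⟩ := exists_minWord P hg
  clear hg
  induction l using List.reverseRecOn with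
  | nil => exact ⟨0, fun _ => le_rfl, fun _ _ => rfl, fun m => by simp [word]⟩
  | append_singleton l a ih =>
    obtain ⟨c, hc0, hcS, hce⟩ := ih (IsMinWord.init P hl)
    have ha : a ∈ Indec P S := hl.1 a (by simp)
    have hpos : word P l • a ∈ S := by
      rw [← posOf_indec P hS]; exact minWord_last_pos P hΔ subset_rfl hl
    refine ⟨c + Pi.single a (f (P.root (word P l • a))), fun i => ?_, fun i hi => ?_, fun m => ?_⟩
    · rw [Pi.add_apply]
      refine add_nonneg (hc0 i) ?_
      by_cases hia : i = a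
      · subst hia; rw [Pi.single_eq_same]; exact hf _ hpos
      · rw [Pi.single_eq_of_ne hia]
    · have hia : i ≠ a := fun e => hi (e ▸ ha.1)
      simp [hcS i hi, hia]
    · have e : word P (l ++ [a]) • m = word P l • m - P.coroot' a m • (word P l • P.root a) := by
        rw [word_concat, mul_smul, refl_smul, P.reflection_apply, smul_sub, smul_zsmul']
      rw [e, map_sub, map_zsmul, ← root_smul]
      have h1 := hce m
      simp only [Pi.add_apply, smul_add, Finset.sum_add_distrib]
      rw [Finset.sum_eq_single a (f := fun i => P.coroot' i m • (Pi.single a (f (P.root (word P l • a))) : ι → Γ) i)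
        (fun b _ hb => by simp [hb]) (by simp), Pi.single_eq_same, ← h1]
      abel

end Groth.Agent.RootDat.Dom
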