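import Groth.Agent.RootDat.Weyl

/-! Existence of positive systems adapted to a saturated set of roots. -/

namespace Groth.Agent.RootDat.Exist

open RootPairing Function Form RootD Pos Weyl

theorem exists_hom_ne_zero {L : Type*} [AddCommGroup L] [Module.Free ℤ L] (s : Finset L)
    (h : ∀ x ∈ s, x ≠ 0) : ∃ f : L →ₗ[ℤ] ℤ, ∀ x ∈ s, f x ≠ 0 := by
  classical
  induction s using Finset.induction_on with
  | empty => exact ⟨0, by simp⟩
  | insert a s _ ih =>
    obtain ⟨f, hf⟩ := ih fun x hx => h x (Finset.mem_insert_of_mem hx)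
    have ha := h a (Finset.mem_insert_self a s)
    let b := Module.Free.chooseBasis ℤ L
    obtain ⟨i, hi⟩ : ∃ i, b.repr a i ≠ 0 := by
      by_contra hc
      push Not at hc
      exact ha (b.repr.injective (by ext i; simp [hc i]))
    let g : L →ₗ[ℤ] ℤ := (Finsupp.lapply i).comp b.repr.toLinearMap
    have hga : g a ≠ 0 := hi
    let T : ℤ := (∑ x ∈ insert a s, |f x|) + 1
    refine ⟨f + T • g, fun x hx => ?_⟩
    simp only [LinearMap.add_apply, LinearMap.smul_apply, smul_eq_mul]
    by_cases hgx : g x = 0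
    · rcases Finset.mem_insert.mp hx with rfl | hx'
      · exact absurd hgx hga
      · simpa [hgx] using hf x hx'
    · intro h0
      have hlt : |f x| < T :=
        Int.lt_add_one_iff.mpr (Finset.single_le_sum (f := fun x => |f x|) (fun _ _ => abs_nonneg _) hx)
      have he : |f x| = |T| * |g x| := by rw [← abs_mul, eq_neg_of_add_eq_zero_left h0, abs_neg]
      have hT : |T| = T := abs_of_pos (lt_of_le_of_lt (abs_nonneg _) hlt)
      have hg1 : 1 ≤ |g x| := Int.one_le_abs hgx
      rw [hT] at he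
      have : T * 1 ≤ T * |g x| :=
        mul_le_mul_of_nonneg_left hg1 (le_trans (abs_nonneg _) hlt.le)
      omega

variable {ι M N : Type*} [AddCommGroup M] [AddCommGroup N] (P : RootPairing ι ℤ M N)

/-- `R'` contains every root having a positive multiple in its span. -/
def IsSat (R' : Set ι) : Prop :=
  ∀ k : ι, (∃ n : ℕ, 0 < n ∧ n • P.root k ∈ Submodule.span ℤ (P.root '' R')) → k ∈ R'

theorem isSat_empty : IsSat P (∅ : Set ι) := by
  rintro k ⟨n, hn, h⟩
  simp only [Set.image_empty, Submodule.span_empty, Submodule.mem_bot] at h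
  rw [← natCast_zsmul] at h
  exact absurd (eq_zero_of_zsmul P (by exact_mod_cast hn.ne') h) (root_ne_zero P k)

theorem IsSat.mem {R' : Set ι} (h : IsSat P R') {k : ι}
    (hk : P.root k ∈ Submodule.span ℤ (P.root '' R')) : k ∈ R' :=
  h k ⟨1, one_pos, by rwa [one_smul]⟩

theorem IsSat.neg {R' : Set ι} (h : IsSat P R') {k : ι} (hk : k ∈ R') :
    P.reflectionPerm k k ∈ R' :=
  h.mem P (by rw [root_neg]; exact neg_mem (Submodule.subset_span (Set.mem_image_of_mem _ hk)))

theorem IsSat.sub {R' : Set ι} (h : IsSat P R') {i j k : ι} (hi : i ∈ R') (hj : j ∈ R')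
    (hk : P.root k = P.root i - P.root j) : k ∈ R' :=
  h.mem P (by
    rw [hk]
    exact sub_mem (Submodule.subset_span (Set.mem_image_of_mem _ hi))
      (Submodule.subset_span (Set.mem_image_of_mem _ hj)))

theorem IsSat.closed {R' : Set ι} (h : IsSat P R') : IsClosedSub P R' := fun i j k hi hj hk =>
  h.mem P (by
    rw [hk]
    exact add_mem (Submodule.subset_span (Set.mem_image_of_mem _ hi))
      (Submodule.subset_span (Set.mem_image_of_mem _ hj)))

variable [Finite ι]

theorem exists_hom_sat {R' : Set ι} (hsat : IsSat P R') :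
    ∃ φ : Submodule.span ℤ (Set.range P.root) →ₗ[ℤ] ℤ,
      ∀ k, φ ⟨P.root k, root_mem_span P k⟩ = 0 ↔ k ∈ R' := by
  classical
  have := Fintype.ofFinite ι
  set L := Submodule.span ℤ (Set.range P.root) with hL
  let Z : Submodule ℤ L :=
    { carrier := {x | ∃ n : ℕ, 0 < n ∧ n • (x : M) ∈ Submodule.span ℤ (P.root '' R')}
      add_mem' := fun {x y} ⟨n, hn, hx⟩ ⟨m, hm, hy⟩ => ⟨n * m, by positivity, by
        rw [Submodule.coe_add, smul_add]
        refine add_mem ?_ ?_
        · rw [mul_comm, mul_smul]; exact nsmul_mem hx m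
        · rw [mul_smul]; exact nsmul_mem hy n⟩
      zero_mem' := ⟨1, one_pos, by simp⟩
      smul_mem' := fun c x ⟨n, hn, hx⟩ => ⟨n, hn, by
        rw [Submodule.coe_smul, smul_comm]
        exact Submodule.smul_mem _ c hx⟩ }
  have hZ : ∀ (c : ℤ) (x : L), c ≠ 0 → c • x ∈ Z → x ∈ Z := by
    rintro c x hc ⟨n, hn, hx⟩
    rw [Submodule.coe_smul, ← natCast_zsmul, ← mul_smul] at hx
    refine ⟨((n : ℤ) * c).natAbs, by have : (n : ℤ) * c ≠ 0 := by positivity
                                     omega, ?_⟩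
    rw [← natCast_zsmul]
    rcases Int.natAbs_eq ((n : ℤ) * c) with h | h
    · rwa [← h]
    · rw [show ((((n : ℤ) * c).natAbs : ℕ) : ℤ) = -((n : ℤ) * c) by omega, neg_smul]
      exact neg_mem hx
  have : Module.Finite ℤ L := Module.Finite.span_of_finite ℤ (Set.finite_range _)
  have : Module.IsTorsionFree ℤ (L ⧸ Z) := by
    rw [Module.isTorsionFree_iff_smul_eq_zero]
    intro c y hy
    obtain ⟨x, rfl⟩ := Submodule.Quotient.mk_surjective Z y
    rw [← Submodule.Quotient.mk_smul, Submodule.Quotient.mk_eq_zero] at hy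
    by_cases hc : c = 0
    · exact Or.inl hc
    · exact Or.inr ((Submodule.Quotient.mk_eq_zero Z).mpr (hZ c x hc hy))
  have : Module.Free ℤ (L ⧸ Z) := Module.free_of_finite_type_torsion_free'
  let S0 := ((Finset.univ.filter fun k => k ∉ R').image
    fun k => Z.mkQ (⟨P.root k, root_mem_span P k⟩ : L))
  obtain ⟨f, hf⟩ := exists_hom_ne_zero S0 (by
    simp only [S0, Finset.mem_image, Finset.mem_filter, Finset.mem_univ, true_and]
    rintro _ ⟨k, hk, rfl⟩ h0
    rw [Submodule.mkQ_apply, Submodule.Quotient.mk_eq_zero] at h0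
    exact hk (hsat k h0))
  refine ⟨f.comp Z.mkQ, fun k => ⟨fun h => ?_, fun hk => ?_⟩⟩
  · by_contra hk
    refine hf _ ?_ h
    simp only [S0, Finset.mem_image, Finset.mem_filter, Finset.mem_univ, true_and]
    exact ⟨k, hk, rfl⟩
  · have : Z.mkQ (⟨P.root k, root_mem_span P k⟩ : L) = 0 := by
      rw [Submodule.mkQ_apply, Submodule.Quotient.mk_eq_zero]
      exact ⟨1, one_pos, by rw [one_smul]; exact Submodule.subset_span (Set.mem_image_of_mem _ hk)⟩
    rw [LinearMap.comp_apply, this, map_zero]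

/-- Orders roots outside a saturated set, completes a positive system inside it. -/
theorem exists_posSys_extend {R' : Set ι} (hsat : IsSat P R') {T : Set ι} (hTR : T ⊆ R')
    (hd : ∀ i ∈ T, P.reflectionPerm i i ∉ T)
    (hc : ∀ i ∈ R', i ∈ T ∨ P.reflectionPerm i i ∈ T) (hT : IsClosedSub P T) :
    ∃ S, IsPosSys P S ∧ S ∩ R' = T ∧ Indec P T ⊆ Indec P S := by
  obtain ⟨φ, hφ⟩ := exists_hom_sat P hsat
  let ψ : ι → ℤ := fun k => φ ⟨P.root k, root_mem_span P k⟩
  have hadd : ∀ i j k, P.root k = P.root i + P.root j → ψ k = ψ i + ψ j := fun i j k h => by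
    show φ _ = φ _ + φ _
    rw [← map_add]; exact congrArg φ (Subtype.ext h)
  have hneg : ∀ i, ψ (P.reflectionPerm i i) = -ψ i := fun i => by
    show φ _ = -φ _
    rw [← map_neg]; exact congrArg φ (Subtype.ext (root_neg P i))
  have hzero : ∀ k, ψ k = 0 ↔ k ∈ R' := hφ
  let S : Set ι := {k | 0 < ψ k} ∪ T
  have hT0 : ∀ k ∈ T, ψ k = 0 := fun k hk => (hzero k).mpr (hTR hk)
  have hnonneg : ∀ k ∈ S, 0 ≤ ψ k := fun k hk => hk.elim (fun h => le_of_lt h) fun h => (hT0 k h).ge
  have hzS : ∀ k ∈ S, ψ k = 0 → k ∈ T := fun k hk h0 =>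
    hk.resolve_left (fun h => by simp [h0] at h)
  have hS : IsPosSys P S := by
    refine isPosSys_of_closed P (fun i hi hn => ?_) (fun i => ?_) fun i j k hi hj h => ?_
    · have h1 := hnonneg i hi
      have h2 := hnonneg _ hn
      rw [hneg] at h2
      have h0 : ψ i = 0 := by omega
      exact hd i (hzS i hi h0) (hzS _ hn (by rw [hneg, h0, neg_zero]))
    · rcases lt_trichotomy (ψ i) 0 with h | h | h
      · exact .inr (.inl (show 0 < ψ _ by rw [hneg]; omega))
      · exact (hc i ((hzero i).mp h)).imp .inr .inr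
      · exact .inl (.inl h)
    · have h1 := hnonneg i hi
      have h2 := hnonneg j hj
      have h3 := hadd i j k h
      by_cases h0 : ψ k = 0
      · exact .inr (hT (hzS i hi (by omega)) (hzS j hj (by omega)) h)
      · exact .inl (show 0 < ψ k by omega)
  refine ⟨S, hS, ?_, fun k hk => ⟨.inr hk.1, ?_⟩⟩
  · ext k
    exact ⟨fun ⟨h1, h2⟩ => hzS k h1 ((hzero k).mpr h2), fun h => ⟨.inr h, hTR h⟩⟩
  · rintro ⟨i, hi, j, hj, h⟩
    have h1 := hnonneg i hi
    have h2 := hnonneg j hj
    have h3 := hadd i j k h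
    have h0 := hT0 k hk.1
    exact hk.2 ⟨i, hzS i hi (by omega), j, hzS j hj (by omega), h⟩

theorem exists_posSys : ∃ S, IsPosSys P S := by
  obtain ⟨S, hS, -⟩ := exists_posSys_extend P (isSat_empty P) (T := ∅) (by simp) (by simp) (by simp)
    (fun i j k hi => hi.elim)
  exact ⟨S, hS⟩

theorem exists_simpleSys : ∃ Δ, IsSimpleSys P Δ := by
  obtain ⟨S, hS⟩ := exists_posSys P
  exact ⟨_, isSimpleSys_indec P hS⟩

theorem isSat_inSpan {Δ Δ' : Set ι} (hΔ : IsSimpleSys P Δ) (h : Δ' ⊆ Δ) :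
    IsSat P (inSpan P Δ') := by
  rintro k ⟨n, hn, hk⟩
  have h1 : Submodule.span ℤ (P.root '' inSpan P Δ') ≤ Submodule.span ℤ (P.root '' Δ') :=
    Submodule.span_le.mpr (by rintro _ ⟨j, hj, rfl⟩; exact hj)
  obtain ⟨d, hd, hde⟩ := (Finsupp.mem_span_image_iff_linearCombination ℤ).mp (h1 hk)
  obtain ⟨c, hc, -, hce⟩ := exists_coeff P hΔ k
  have he : (n : ℤ) • c = d := coeff_unique P hΔ.linInd
    ((Finset.coe_subset.mpr Finsupp.support_smul).trans hc) (hd.trans h)
    (by rw [map_zsmul, hce, hde, natCast_zsmul])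
  show P.root k ∈ Submodule.span ℤ (P.root '' Δ')
  rw [Finsupp.mem_span_image_iff_linearCombination]
  refine ⟨c, fun j hj => hd ?_, hce⟩
  rw [Finset.mem_coe, Finsupp.mem_support_iff] at hj ⊢
  rw [← he]
  simp [hj, hn.ne']

theorem simpleSys_extend {R' : Set ι} (hsat : IsSat P R') {Δ' : Set ι} (hΔR : Δ' ⊆ R')
    (hli : LinearIndepOn ℤ P.root Δ')
    (hgen : ∀ k ∈ R', P.root k ∈ natSpan P Δ' ∨ -P.root k ∈ natSpan P Δ') :
    ∃ Δ, IsSimpleSys P Δ ∧ Δ' ⊆ Δ ∧ R' = inSpan P Δ' := by
  classical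
  let T : Set ι := {k | k ∈ R' ∧ P.root k ∈ natSpan P Δ'}
  have hnn : ∀ x, x ∈ natSpan P Δ' → -x ∈ natSpan P Δ' → x = 0 := fun x h1 h2 => by
    obtain ⟨c, hc, hc0, hce⟩ := natSpan_coeff P h1
    obtain ⟨d, hd, hd0, hde⟩ := natSpan_coeff P h2
    have hcd : c = -d := coeff_unique P hli hc (by simpa using hd)
      (by rw [map_neg, hde, hce, neg_neg])
    have hz : c = 0 := by
      ext j
      have := hc0 j; have := hd0 j
      simp [hcd] at *
      omega
    rw [← hce, hz, map_zero]
  obtain ⟨S, hS, -, hind⟩ := exists_posSys_extend P hsat (T := T) (fun k hk => hk.1)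
    (fun i hi hn => root_ne_zero P i (hnn _ hi.2 (by simpa [root_neg] using hn.2)))
    (fun i hi => (hgen i hi).imp (fun h => ⟨hi, h⟩)
      fun h => ⟨hsat.neg P hi, by rwa [root_neg]⟩)
    (fun i j k hi hj hk => ⟨hsat.closed P hi.1 hj.1 hk, by rw [hk]; exact add_mem hi.2 hj.2⟩)
  refine ⟨Indec P S, isSimpleSys_indec P hS, fun k hk => hind ⟨⟨hΔR hk, root_mem_natSpan P hk⟩, ?_⟩, ?_⟩
  · rintro ⟨i, hi, j, hj, h⟩
    obtain ⟨c, hc, hc0, hce⟩ := natSpan_coeff P hi.2
    obtain ⟨d, hd, hd0, hde⟩ := natSpan_coeff P hj.2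
    have he : c + d = Finsupp.single k 1 := coeff_unique P hli
      (fun a ha => (Finset.mem_union.mp (Finsupp.support_add ha)).elim (fun h => hc h) fun h => hd h)
      (fun a ha => by have := Finsupp.support_single_subset ha; simp_all)
      (by rw [map_add, hce, hde, Finsupp.linearCombination_single, one_smul, h])
    have t := congrArg (fun e : ι →₀ ℤ => e.sum fun _ a => a) he
    simp only [Finsupp.sum_single_index] at t
    rw [Finsupp.sum_add_index' (fun _ => rfl) (fun _ _ _ => rfl)] at t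
    have := coeff_total_pos hc0 fun hz => root_ne_zero P i (by rw [← hce, hz, map_zero])
    have := coeff_total_pos hd0 fun hz => root_ne_zero P j (by rw [← hde, hz, map_zero])
    omega
  · ext k
    refine ⟨fun hk => ?_, fun hk => hsat.mem P (Submodule.span_mono (Set.image_mono hΔR) hk)⟩
    show P.root k ∈ Submodule.span ℤ (P.root '' Δ')
    rcases hgen k hk with h | h
    · exact natSpan_le_span P h
    · exact neg_mem_iff.mp (natSpan_le_span P h)

end Groth.Agent.RootDat.Exist
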