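import Mathlib.LinearAlgebra.RootSystem.Finite.Nondegenerate
import Mathlib.LinearAlgebra.RootSystem.Finite.Lemmas
import Mathlib.LinearAlgebra.RootSystem.WeylGroup

/-! Basic facts on finite root pairings over `ℤ` via the canonical invariant form. -/

namespace Groth.Agent.RootDat.Form

open RootPairing Function

variable {ι M N : Type*} [AddCommGroup M] [AddCommGroup N] (P : RootPairing ι ℤ M N)

include P in
theorem tf_left : IsAddTorsionFree M := by
  have : Module.IsReflexive ℤ M := .of_isPerfPair P.toLinearMap
  exact .of_isTorsionFree ℤ M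

include P in
theorem tf_right : IsAddTorsionFree N := by
  have : Module.IsReflexive ℤ N := .of_isPerfPair P.flip.toLinearMap
  exact .of_isTorsionFree ℤ N

include P in
theorem eq_zero_of_zsmul {n : ℤ} {x : M} (hn : n ≠ 0) (h : n • x = 0) : x = 0 := by
  have := tf_left P
  exact zsmul_right_injective hn (h.trans (smul_zero n).symm)

include P in
theorem cancel {n : ℤ} {x y : M} (hn : n ≠ 0) (h : n • x = n • y) : x = y := by
  have := tf_left P
  exact zsmul_right_injective hn h

include P in
theorem cancelN {n : ℤ} {x y : N} (hn : n ≠ 0) (h : n • x = n • y) : x = y := by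
  have := tf_right P
  exact zsmul_right_injective hn h

theorem root_ne_zero (i : ι) : P.root i ≠ 0 := P.ne_zero i

theorem root_neg (i : ι) : P.root (P.reflectionPerm i i) = -P.root i := by simp

theorem coroot_neg (i : ι) : P.coroot (P.reflectionPerm i i) = -P.coroot i := by simp

theorem neg_neg_idx (i : ι) :
    P.reflectionPerm (P.reflectionPerm i i) (P.reflectionPerm i i) = i :=
  P.root.injective (by rw [root_neg, root_neg, neg_neg])

theorem root_eq_neg {i j : ι} (h : P.root j = -P.root i) : j = P.reflectionPerm i i :=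
  P.root.injective (h.trans (root_neg P i).symm)

theorem root_mem_span (i : ι) : P.root i ∈ Submodule.span ℤ (Set.range P.root) :=
  Submodule.subset_span (Set.mem_range_self i)

theorem sub_reflection (i : ι) (x : M) : x - P.reflection i x = P.coroot' i x • P.root i := by
  rw [P.reflection_apply]; abel

section Aut

theorem root_smul (g : P.Aut) (i : ι) : P.root (g • i) = g • P.root i :=
  RootPairing.Equiv.root_indexEquiv_eq_smul (P := P) i g

theorem smul_zsmul' (g : P.Aut) (n : ℤ) (x : M) : g • n • x = n • g • x :=
  smul_comm g n x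

theorem refl_smul_idx (i j : ι) : RootPairing.Equiv.reflection P i • j = P.reflectionPerm i j :=
  rfl

theorem refl_smul (i : ι) (x : M) : RootPairing.Equiv.reflection P i • x = P.reflection i x :=
  rfl

theorem aut_ext {g h : P.Aut} (H : ∀ x : M, g • x = h • x) : g = h :=
  RootPairing.Equiv.weightHom_injective P (LinearEquiv.ext H)

theorem refl_mul_self (i : ι) :
    RootPairing.Equiv.reflection P i * RootPairing.Equiv.reflection P i = 1 :=
  aut_ext P fun x => by
    rw [mul_smul, one_smul, refl_smul, refl_smul, P.reflection_same]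

theorem refl_inv (i : ι) :
    (RootPairing.Equiv.reflection P i)⁻¹ = RootPairing.Equiv.reflection P i :=
  inv_eq_of_mul_eq_one_right (refl_mul_self P i)

theorem coroot_smul (g : P.Aut) (i : ι) :
    g.toHom.coweightMap (P.coroot (g • i)) = P.coroot i := by
  have h : g.toHom.coweightMap (P.coroot (g • i)) = P.coroot (g.toHom.indexEquiv.symm (g • i)) :=
    Hom.coroot_coweightMap_apply P P (g • i) g.toHom
  rw [h]
  exact congrArg P.coroot (g.toHom.indexEquiv.symm_apply_apply i)

theorem coroot'_smul (g : P.Aut) (i : ι) (x : M) :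
    P.coroot' (g • i) (g • x) = P.coroot' i x := by
  calc P.coroot' (g • i) (g • x) = P.toLinearMap (g.toHom.weightMap x) (P.coroot (g • i)) := rfl
    _ = P.toLinearMap x (g.toHom.coweightMap (P.coroot (g • i))) :=
        (LinearMap.congr_fun (Hom.weight_coweight_transpose_apply P P (P.coroot (g • i)) g.toHom) x)
    _ = P.coroot' i x := by rw [coroot_smul]; rfl

theorem conj_refl (g : P.Aut) (i : ι) :
    g * RootPairing.Equiv.reflection P i * g⁻¹ = RootPairing.Equiv.reflection P (g • i) := by
  rw [mul_inv_eq_iff_eq_mul]
  refine aut_ext P fun x => ?_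
  rw [mul_smul, mul_smul, refl_smul, refl_smul, P.reflection_apply, P.reflection_apply,
    smul_sub, coroot'_smul, smul_zsmul', root_smul]

theorem sub_smul_mem_span {g : P.Aut} (hg : g ∈ P.weylGroup) (x : M) :
    g • x - x ∈ Submodule.span ℤ (Set.range P.root) := by
  induction hg using RootPairing.weylGroup.induction generalizing x with
  | mem i =>
    rw [refl_smul, ← neg_sub, sub_reflection]
    exact neg_mem (Submodule.smul_mem _ _ (root_mem_span P i))
  | one => simp
  | mul a b _ _ ha hb =>
    have h := add_mem (ha (b • x)) (hb x)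
    rwa [sub_add_sub_cancel, ← mul_smul] at h

end Aut

section Fintype

variable [Fintype ι]

/-- The canonical invariant form. -/
abbrev B (x y : M) : ℤ := P.RootForm x y

theorem B_def (x y : M) : B P x y = ∑ i, P.coroot' i x * P.coroot' i y :=
  P.rootForm_apply_apply x y

theorem B_comm (x y : M) : B P x y = B P y x := by
  simp [B_def, mul_comm]

theorem B_nonneg (x : M) : 0 ≤ B P x x := P.zero_le_rootForm x

theorem B_self_pos (i : ι) : 0 < B P (P.root i) (P.root i) :=
  P.rootForm_pos_of_ne_zero (root_mem_span P i) (root_ne_zero P i)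

theorem eq_zero_of_B_self {x : M} (hx : x ∈ Submodule.span ℤ (Set.range P.root))
    (h : B P x x = 0) : x = 0 :=
  P.eq_zero_of_mem_rootSpan_of_rootForm_self_eq_zero hx h

theorem B_refl (i : ι) (x y : M) : B P (P.reflection i x) (P.reflection i y) = B P x y :=
  P.rootForm_reflection_reflection_apply i x y

theorem two_B (x : M) (i : ι) :
    2 * B P x (P.root i) = P.coroot' i x * B P (P.root i) (P.root i) := by
  have h := B_refl P i x (P.root i)
  rw [P.reflection_apply_self, P.reflection_apply] at h
  simp only [B, map_sub, map_neg, map_smul, LinearMap.sub_apply, LinearMap.smul_apply,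
    smul_eq_mul] at h ⊢
  linarith

theorem pairing_swap (i j : ι) :
    P.pairing i j * B P (P.root j) (P.root j) = P.pairing j i * B P (P.root i) (P.root i) := by
  have h1 := two_B P (P.root i) j
  have h2 := two_B P (P.root j) i
  rw [B_comm P (P.root j) (P.root i)] at h2
  rw [P.root_coroot'_eq_pairing] at h1 h2
  linarith

theorem B_pos_iff (x : M) (i : ι) : 0 < B P x (P.root i) ↔ 0 < P.coroot' i x := by
  have h := two_B P x i
  have hp := B_self_pos P i
  refine ⟨fun hx => ?_, fun hx => ?_⟩
  · by_contra hc
    have := mul_nonpos_of_nonpos_of_nonneg (not_lt.mp hc) hp.le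
    linarith
  · have := mul_pos hx hp
    linarith

theorem B_eq_zero_iff (x : M) (i : ι) : B P x (P.root i) = 0 ↔ P.coroot' i x = 0 := by
  have h := two_B P x i
  have hp := B_self_pos P i
  refine ⟨fun hx => ?_, fun hx => ?_⟩
  · rw [hx] at h
    simpa [hp.ne'] using h.symm
  · rw [hx] at h
    simpa using h

theorem B_neg_iff (x : M) (i : ι) : B P x (P.root i) < 0 ↔ P.coroot' i x < 0 := by
  have h1 := B_pos_iff P x i
  have h2 := B_eq_zero_iff P x i
  omega

theorem B_smul (g : P.Aut) (x y : M) : B P (g • x) (g • y) = B P x y := by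
  rw [B_def, B_def]
  refine (Fintype.sum_equiv (RootPairing.Equiv.indexHom P g) _ _ fun i => ?_).symm
  show _ = P.coroot' (g • i) (g • x) * P.coroot' (g • i) (g • y)
  rw [coroot'_smul, coroot'_smul]

theorem rootLength_smul (g : P.Aut) (i : ι) :
    B P (P.root (g • i)) (P.root (g • i)) = B P (P.root i) (P.root i) := by
  rw [root_smul, B_smul]

theorem eq_zero_of_forall_B {x : M} (hx : x ∈ Submodule.span ℤ (Set.range P.root))
    (h : ∀ i, B P x (P.root i) = 0) : x = 0 := by
  refine eq_zero_of_B_self P hx ?_
  have hle : Submodule.span ℤ (Set.range P.root) ≤ LinearMap.ker (P.RootForm x) := by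
    rw [Submodule.span_le]
    rintro _ ⟨i, rfl⟩
    exact h i
  exact hle hx

theorem eq_one_of_fix {g : P.Aut} (hfix : ∀ i : ι, g • i = i)
    (hs : ∀ m : M, ∃ n : ℕ, 0 < n ∧ n • (g • m - m) ∈ Submodule.span ℤ (Set.range P.root)) :
    g = 1 := by
  refine aut_ext P fun x => ?_
  rw [one_smul]
  obtain ⟨n, hn, hmem⟩ := hs x
  have h0 : n • (g • x - x) = 0 := by
    refine eq_zero_of_forall_B P hmem fun i => ?_
    have h := B_smul P g x (P.root i)
    rw [← root_smul, hfix i] at h
    simp only [B, map_nsmul, LinearMap.smul_apply, map_sub, LinearMap.sub_apply] at h ⊢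
    simp [h]
  rw [← natCast_zsmul] at h0
  exact sub_eq_zero.mp (eq_zero_of_zsmul P (by exact_mod_cast hn.ne') h0)

theorem proportional_coroot {i j : ι} {a b : ℤ} (hb : b ≠ 0)
    (h : b • P.root j = a • P.root i) (x : M) :
    P.coroot' i x • P.root i = P.coroot' j x • P.root j := by
  have hi := B_self_pos P i
  have e1 : b * B P x (P.root j) = a * B P x (P.root i) := by
    have := congrArg (fun z => B P x z) h
    simpa [B] using this
  have e2 : b * b * B P (P.root j) (P.root j) = a * a * B P (P.root i) (P.root i) := by
    have := congrArg (fun z => B P z z) h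
    simpa [B, mul_assoc] using this
  have ha : a ≠ 0 := by
    rintro rfl
    rw [zero_smul] at h
    exact root_ne_zero P j (eq_zero_of_zsmul P hb h)
  have t1 := two_B P x i
  have t2 := two_B P x j
  apply cancel P (n := b * B P (P.root j) (P.root j) * b)
    (by have := B_self_pos P j; positivity)
  rw [← mul_smul, ← mul_smul]
  have : P.coroot' j x * B P (P.root j) (P.root j) * b = P.coroot' i x * B P (P.root i) (P.root i) * a := by
    rw [← t1, ← t2]; linear_combination 2 * e1
  calc (b * B P (P.root j) (P.root j) * b * P.coroot' i x) • P.root i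
      = (a * P.coroot' j x * B P (P.root j) (P.root j) * b) • P.root i := by
        congr 1
        linear_combination P.coroot' i x * e2 - a * this
    _ = (P.coroot' j x * B P (P.root j) (P.root j) * b) • (a • P.root i) := by
        rw [← mul_smul]; congr 1; ring
    _ = (P.coroot' j x * B P (P.root j) (P.root j) * b) • (b • P.root j) := by rw [h]
    _ = _ := by rw [← mul_smul]; congr 1; ring

theorem refl_eq_of_proportional {i j : ι} {a b : ℤ} (hb : b ≠ 0)
    (h : b • P.root j = a • P.root i) :
    RootPairing.Equiv.reflection P i = RootPairing.Equiv.reflection P j :=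
  aut_ext P fun x => by
    rw [refl_smul, refl_smul, P.reflection_apply, P.reflection_apply,
      proportional_coroot P hb h x]

theorem exists_sub_root {i j : ι} (h : 0 < P.pairing i j) (hne : i ≠ j) :
    ∃ k, P.root k = P.root i - P.root j := by
  have h' : 0 < P.pairingIn ℤ i j := by
    have e := P.algebraMap_pairingIn ℤ i j
    simp only [algebraMap_int_eq, eq_intCast, Int.cast_id] at e
    rwa [e]
  obtain ⟨k, hk⟩ := P.root_sub_root_mem_of_pairingIn_pos h' hne
  exact ⟨k, hk⟩

theorem exists_add_root {i j : ι} (h : P.pairing i j < 0) (hne : P.root i ≠ -P.root j) :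
    ∃ k, P.root k = P.root i + P.root j := by
  have hne' : i ≠ P.reflectionPerm j j := fun e => hne (by rw [e, root_neg])
  have h' : 0 < P.pairing i (P.reflectionPerm j j) := by
    rw [P.pairing_reflectionPerm_self_right]; omega
  obtain ⟨k, hk⟩ := exists_sub_root P h' hne'
  exact ⟨k, by rw [hk, root_neg, sub_neg_eq_add]⟩

theorem pairing_pos_comm {i j : ι} (h : 0 < P.pairing i j) : 0 < P.pairing j i := by
  rw [← P.root_coroot'_eq_pairing, ← B_pos_iff, B_comm] at h
  rwa [B_pos_iff, P.root_coroot'_eq_pairing] at h

theorem isOrth_of_pairing {i j : ι} (h : P.pairing i j = 0) : P.IsOrthogonal i j := by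
  refine ⟨h, ?_⟩
  rw [← P.root_coroot'_eq_pairing, ← B_eq_zero_iff, B_comm] at h
  rwa [B_eq_zero_iff, P.root_coroot'_eq_pairing] at h

end Fintype

end Groth.Agent.RootDat.Form
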