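import Groth.Agent.RootDat.Comb

/-! Induction over positive roots; flipping positive systems; root lengths. -/

namespace Groth.Agent.RootDat.Ind

open RootPairing Function Form RootD Pos Weyl Exist Trans Comb

variable {ι M N : Type*} [AddCommGroup M] [AddCommGroup N] (P : RootPairing ι ℤ M N) [Finite ι]

theorem posOf_induction {Δ : Set ι} (hΔ : IsSimpleSys P Δ) {Q : ι → Prop}
    (hsimple : ∀ i ∈ Δ, Q i)
    (hadd : ∀ i j k, i ∈ posOf P Δ → j ∈ posOf P Δ → Q i → Q j → P.root k = P.root i + P.root j → Q k) :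
    ∀ k ∈ posOf P Δ, Q k := by
  classical
  suffices h : ∀ (n : ℕ) (k : ι) (c : ι →₀ ℤ), ↑c.support ⊆ Δ → (∀ j, 0 ≤ c j) →
      Finsupp.linearCombination ℤ P.root c = P.root k → (c.sum fun _ a => a) ≤ n → Q k by
    intro k hk
    obtain ⟨c, h1, h2, h3⟩ := natSpan_coeff P (hk : P.root k ∈ natSpan P Δ)
    exact h _ k c h1 h2 h3 (Int.self_le_toNat _)
  intro n
  induction n with
  | zero =>
    intro k c hc hc0 hce hn
    have := coeff_total_pos hc0 fun hz => root_ne_zero P k (by rw [← hce, hz, map_zero])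
    omega
  | succ n ih =>
    intro k c hc hc0 hce hn
    have hkp : k ∈ posOf P Δ := by
      show P.root k ∈ natSpan P Δ
      rw [← hce]; exact coeff_natSpan P hc hc0
    by_cases hkΔ : k ∈ Δ
    · exact hsimple k hkΔ
    obtain ⟨g, hg, d, hd, he⟩ : ∃ g ∈ posOf P Δ, ∃ d ∈ posOf P Δ,
        P.root k = P.root g + P.root d := by
      by_contra hno
      have : k ∈ Indec P (posOf P Δ) := ⟨hkp, hno⟩
      rw [← eq_indec P hΔ] at this
      exact hkΔ this
    obtain ⟨p, hp, hp0, hpe⟩ := natSpan_coeff P hg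
    obtain ⟨q, hq, hq0, hqe⟩ := natSpan_coeff P hd
    have hpq : p + q = c := coeff_unique P hΔ.linInd
      (fun a ha => (Finset.mem_union.mp (Finsupp.support_add ha)).elim (fun h => hp h) fun h => hq h)
      hc (by rw [map_add, hpe, hqe, hce, he])
    have ht : (p.sum fun _ a => a) + (q.sum fun _ a => a) = c.sum fun _ a => a := by
      rw [← hpq, Finsupp.sum_add_index' (fun _ => rfl) (fun _ _ _ => rfl)]
    have := coeff_total_pos hp0 fun hz => root_ne_zero P g (by rw [← hpe, hz, map_zero])
    have := coeff_total_pos hq0 fun hz => root_ne_zero P d (by rw [← hqe, hz, map_zero])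
    exact hadd g d k hg hd (ih g p hp hp0 hpe (by omega)) (ih d q hq hq0 hqe (by omega)) he

theorem span_simple {Δ : Set ι} (hΔ : IsSimpleSys P Δ) :
    Submodule.span ℤ (Set.range P.root) = Submodule.span ℤ (P.root '' Δ) := by
  refine le_antisymm (Submodule.span_le.mpr ?_) (Submodule.span_mono (Set.image_subset_range _ _))
  rintro _ ⟨i, rfl⟩
  rcases hΔ.mem_or_neg_mem i with h | h
  · exact natSpan_le_span P h
  · exact neg_mem_iff.mp (natSpan_le_span P h)

theorem pairing_smul (g : P.Aut) (i j : ι) : P.pairing (g • i) (g • j) = P.pairing i j := by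
  rw [← P.root_coroot'_eq_pairing, root_smul, coroot'_smul, P.root_coroot'_eq_pairing]

theorem orth_smul (g : P.Aut) (i j : ι) : P.IsOrthogonal (g • i) (g • j) ↔ P.IsOrthogonal i j := by
  simp only [RootPairing.IsOrthogonal, pairing_smul]

theorem exists_conj_not_orth (i : ι) {j : ι} (h : j ∈ Comp P i) :
    ∃ g : P.Aut, g ∈ P.weylGroup ∧ ¬ P.IsOrthogonal (g • i) j := by
  induction h with
  | refl => exact ⟨1, one_mem _, by rw [one_smul]; intro h; simpa using h.1⟩
  | @tail l m _ hlm ih =>
    obtain ⟨g, hg, hgl⟩ := ih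
    by_cases hgm : P.IsOrthogonal (g • i) m
    · refine ⟨RootPairing.Equiv.reflection P l * g, mul_mem (P.reflection_mem_weylGroup l) hg,
        fun h => ?_⟩
      have := Fintype.ofFinite ι
      have h1 := h.1
      rw [mul_smul, refl_smul_idx, ← P.root_coroot'_eq_pairing, P.root_reflectionPerm] at h1
      simp only [P.reflection_apply,
        map_sub, map_zsmul, P.root_coroot'_eq_pairing, smul_eq_mul, hgm.1, zero_sub, neg_eq_zero,
        mul_eq_zero] at h1
      rcases h1 with h1 | h1
      · exact hgl (isOrth_of_pairing P h1)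
      · exact hlm (isOrth_of_pairing P h1)
    · exact ⟨g, hg, hgm⟩

theorem comp_eq_univ
    (hirr : ∀ R' : Set ι, IsClosedSub P R' → IsSymmSub P R' → IsClosedSub P R'ᶜ →
      IsSymmSub P R'ᶜ → R' = ∅ ∨ R' = Set.univ) (i : ι) : Comp P i = Set.univ := by
  obtain ⟨h1, h2, h3, h4⟩ := comp_props P i
  refine (hirr _ h1 h2 h3 h4).resolve_left fun h => ?_
  have : i ∈ Comp P i := Relation.ReflTransGen.refl
  rw [h] at this
  exact this

theorem pairing_cases (i j : ι) :
    (P.pairing i j, P.pairing j i) ∈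
      ({(0, 0), (1, 1), (-1, -1), (1, 2), (2, 1), (-1, -2), (-2, -1), (1, 3), (3, 1), (-1, -3),
        (-3, -1), (4, 1), (1, 4), (-4, -1), (-1, -4), (2, 2), (-2, -2)} : Set (ℤ × ℤ)) := by
  have h := P.pairingIn_pairingIn_mem_set_of_isCrystallographic i j
  have e := P.algebraMap_pairingIn ℤ i j
  have e' := P.algebraMap_pairingIn ℤ j i
  simp only [algebraMap_int_eq, eq_intCast, Int.cast_id] at e e'
  rwa [e, e'] at h

section Length

variable [Fintype ι]

theorem length_ratio {i j : ι} (h : ¬ P.IsOrthogonal i j)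
    (hle : B P (P.root i) (P.root i) ≤ B P (P.root j) (P.root j)) :
    ∃ c : ℤ, (c = 1 ∨ c = 2 ∨ c = 3 ∨ c = 4) ∧
      B P (P.root j) (P.root j) = c * B P (P.root i) (P.root i) := by
  have hc := pairing_cases P i j
  have hne : P.pairing i j ≠ 0 := fun e => h (isOrth_of_pairing P e)
  have hs := pairing_swap P i j
  have hi := B_self_pos P i
  simp only [Set.mem_insert_iff, Set.mem_singleton_iff, Prod.mk.injEq] at hc
  rcases hc with hc | hc | hc | hc | hc | hc | hc | hc | hc | hc | hc | hc | hc | hc | hc | hc | hc <;>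
    obtain ⟨e1, e2⟩ := hc <;> rw [e1, e2] at hs <;>
    first
      | omega
      | exact ⟨1, by omega, by omega⟩
      | exact ⟨2, by omega, by omega⟩
      | exact ⟨3, by omega, by omega⟩
      | exact ⟨4, by omega, by omega⟩

theorem length_mul_eq {i j : ι} (h : ¬ P.IsOrthogonal i j) :
    B P (P.root i) (P.root i) * B P.flip (P.coroot i) (P.coroot i) =
      B P (P.root j) (P.root j) * B P.flip (P.coroot j) (P.coroot j) := by
  have hne : P.pairing i j ≠ 0 := fun e => h (isOrth_of_pairing P e)
  have hne' : P.pairing j i ≠ 0 := fun e => h (isOrth_of_pairing P e).symm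
  have h1 := pairing_swap P i j
  have h2 := pairing_swap P.flip i j
  simp only [P.pairing_flip] at h2
  change P.pairing j i * B P.flip (P.coroot j) (P.coroot j) =
    P.pairing i j * B P.flip (P.coroot i) (P.coroot i) at h2
  refine mul_left_cancel₀ (mul_ne_zero hne hne') ?_
  linear_combination -(P.pairing i j * B P.flip (P.coroot i) (P.coroot i)) * h1
    - (P.pairing i j * B P (P.root j) (P.root j)) * h2

theorem two_pol (i : ι) :
    (2 : ℤ) • P.Polarization (P.root i) = B P (P.root i) (P.root i) • P.coroot i := by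
  rw [B, P.rootForm_self_smul_coroot, two_smul, two_smul]

theorem two_copol (i : ι) :
    (2 : ℤ) • P.CoPolarization (P.coroot i) = B P.flip (P.coroot i) (P.coroot i) • P.root i := by
  show _ = P.CorootForm (P.coroot i) (P.coroot i) • P.root i
  rw [P.corootForm_self_smul_root, two_smul, two_smul]

end Length

theorem isPosSys_flip {T : Set ι} (hT : IsPosSys P T) : IsPosSys P.flip T := by
  have := Fintype.ofFinite ι
  refine isPosSys_of_closed P.flip (fun i hi => hT.disjoint hi) hT.cover fun a b c ha hb h => ?_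
  change P.coroot c = P.coroot a + P.coroot b at h
  have e : B P.flip (P.coroot c) (P.coroot c) • P.root c =
      B P.flip (P.coroot a) (P.coroot a) • P.root a +
        B P.flip (P.coroot b) (P.coroot b) • P.root b := by
    rw [← two_copol, ← two_copol, ← two_copol, h, map_add, smul_add]
  have hpos : ∀ l, ∃ n : ℕ, 0 < n ∧ (n : ℤ) = B P.flip (P.coroot l) (P.coroot l) := fun l => by
    have : 0 < B P.flip (P.flip.root l) (P.flip.root l) := B_self_pos P.flip l
    exact ⟨(B P.flip (P.flip.root l) (P.flip.root l)).toNat, by omega, Int.toNat_of_nonneg this.le⟩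
  obtain ⟨na, -, hna⟩ := hpos a
  obtain ⟨nb, -, hnb⟩ := hpos b
  obtain ⟨nc, hnc0, hnc⟩ := hpos c
  refine hT.sat nc hnc0 ?_
  rw [← hna, ← hnb, ← hnc] at e
  simp only [natCast_zsmul] at e
  rw [e]
  exact add_mem (nsmul_mem (root_mem_natSpan P ha) _) (nsmul_mem (root_mem_natSpan P hb) _)

end Groth.Agent.RootDat.Ind
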