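import Groth.Agent.RootDat.Form
import Groth.Prelude.Def_W4sga3xxiRoot

/-! Positive and simple systems of roots, by conditions on roots only. -/

namespace Groth.Agent.RootDat.Pos

open RootPairing Function Form RootD

variable {ι M N : Type*} [AddCommGroup M] [AddCommGroup N] (P : RootPairing ι ℤ M N)

theorem root_mem_natSpan {S : Set ι} {i : ι} (h : i ∈ S) : P.root i ∈ natSpan P S :=
  AddSubmonoid.subset_closure (Set.mem_image_of_mem _ h)

theorem natSpan_mono {S T : Set ι} (h : S ⊆ T) : natSpan P S ≤ natSpan P T :=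
  AddSubmonoid.closure_mono (Set.image_mono h)

theorem natSpan_le {S : Set ι} {K : AddSubmonoid M} (h : ∀ i ∈ S, P.root i ∈ K) :
    natSpan P S ≤ K :=
  AddSubmonoid.closure_le.mpr (by rintro _ ⟨i, hi, rfl⟩; exact h i hi)

theorem natSpan_le_span {S : Set ι} {x : M} (h : x ∈ natSpan P S) :
    x ∈ Submodule.span ℤ (P.root '' S) :=
  natSpan_le P (K := (Submodule.span ℤ (P.root '' S)).toAddSubmonoid)
    (fun i hi => Submodule.subset_span (Set.mem_image_of_mem _ hi)) h

theorem natSpan_multiset {S : Set ι} {x : M} (h : x ∈ natSpan P S) :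
    ∃ s : Multiset ι, (∀ i ∈ s, i ∈ S) ∧ (s.map P.root).sum = x := by
  induction h using AddSubmonoid.closure_induction with
  | mem y hy =>
    obtain ⟨i, hi, rfl⟩ := hy
    exact ⟨{i}, by simpa using hi, by simp⟩
  | zero => exact ⟨0, by simp, by simp⟩
  | add a b _ _ ha hb =>
    obtain ⟨s, hs, rfl⟩ := ha
    obtain ⟨t, ht, rfl⟩ := hb
    exact ⟨s + t, fun i hi => (Multiset.mem_add.mp hi).elim (hs i) (ht i), by simp⟩

theorem multiset_natSpan {S : Set ι} {s : Multiset ι} (h : ∀ i ∈ s, i ∈ S) :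
    (s.map P.root).sum ∈ natSpan P S :=
  AddSubmonoid.multiset_sum_mem _ _ fun x hx => by
    obtain ⟨i, hi, rfl⟩ := Multiset.mem_map.mp hx
    exact root_mem_natSpan P (h i hi)

variable [Finite ι]

theorem natSpan_closed_aux {S : Set ι} (hS : IsClosedSub P S) :
    ∀ (n : ℕ) (s : Multiset ι), s.card = n → (∀ i ∈ s, i ∈ S) → ∀ k,
      (s.map P.root).sum = P.root k → k ∈ S := by
  classical
  have := Fintype.ofFinite ι
  intro n
  induction n using Nat.strong_induction_on with
  | _ n ih =>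
    intro s hn hs k hk
    obtain ⟨b, hb, hpos⟩ : ∃ b ∈ s, 0 < B P (P.root k) (P.root b) := by
      by_contra hcon
      push Not at hcon
      have hle : B P (P.root k) (s.map P.root).sum ≤ 0 := by
        simp only [B, map_multiset_sum, Multiset.map_map]
        refine Multiset.sum_le_card_nsmul _ 0 (fun y hy => ?_) |>.trans (by simp)
        obtain ⟨b, hb, rfl⟩ := Multiset.mem_map.mp hy
        exact hcon b hb
      rw [hk] at hle
      linarith [B_self_pos P k]
    rw [B_pos_iff, P.root_coroot'_eq_pairing] at hpos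
    rcases eq_or_ne k b with rfl | hne
    · exact hs k hb
    obtain ⟨d, hd⟩ := exists_sub_root P hpos hne
    have hsum : ((s.erase b).map P.root).sum = P.root d := by
      rw [hd, ← hk]
      conv_rhs => rw [← Multiset.cons_erase hb]
      simp
    have hlt : (s.erase b).card < n := hn ▸ Multiset.card_erase_lt_of_mem hb
    have hd' := ih _ hlt _ rfl (fun i hi => hs i (Multiset.mem_of_mem_erase hi)) d hsum
    exact hS hd' (hs b hb) (by rw [hd, sub_add_cancel])

theorem natSpan_closed {S : Set ι} (hS : IsClosedSub P S) {k : ι}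
    (h : P.root k ∈ natSpan P S) : k ∈ S := by
  obtain ⟨s, hs, he⟩ := natSpan_multiset P h
  exact natSpan_closed_aux P hS _ s rfl hs k he

theorem neg_notMem_natSpan {S : Set ι} (hS : IsClosedSub P S)
    (hd : ∀ i ∈ S, P.reflectionPerm i i ∉ S) {i : ι} (hi : i ∈ S) :
    -P.root i ∉ natSpan P S := fun h =>
  hd i hi (natSpan_closed P hS (by rwa [root_neg]))

theorem isPosSys_of_closed {S : Set ι} (hd : ∀ i ∈ S, P.reflectionPerm i i ∉ S)
    (hc : ∀ i : ι, i ∈ S ∨ P.reflectionPerm i i ∈ S) (hS : IsClosedSub P S) : IsPosSys P S := by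
  refine ⟨hd, hc, fun k n hn h => ?_⟩
  by_contra hk
  have hneg := (hc k).resolve_left hk
  have hmem : P.root k ∈ natSpan P S := by
    obtain ⟨m, rfl⟩ : ∃ m, n = m + 1 := ⟨n - 1, by omega⟩
    have := add_mem h (nsmul_mem (root_mem_natSpan P hneg) m)
    rw [root_neg, smul_neg, succ_nsmul'] at this
    simpa using this
  exact hk (natSpan_closed P hS hmem)

variable {P}

omit [Finite ι] in
theorem posClosed {S : Set ι} (hS : IsPosSys P S) : IsClosedSub P S :=
  fun i j k hi hj h => hS.sat 1 one_pos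
    (by rw [one_smul, h]; exact add_mem (root_mem_natSpan P hi) (root_mem_natSpan P hj))

omit [Finite ι] in
theorem posNegMem {S : Set ι} (hS : IsPosSys P S) (i : ι) :
    P.reflectionPerm i i ∈ S ↔ i ∉ S :=
  ⟨fun h hi => hS.disjoint hi h, fun h => (hS.cover i).resolve_left h⟩

omit [Finite ι] in
theorem posEqOfSubset {S S' : Set ι} (hS : IsPosSys P S) (hS' : IsPosSys P S')
    (h : S ⊆ S') : S = S' := by
  refine h.antisymm fun i hi => ?_
  by_contra hn
  exact hS'.disjoint hi (h ((posNegMem hS i).mpr hn))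

variable (P)

/-- The roots of `T` which are not sums of two roots of `T`. -/
def Indec (T : Set ι) : Set ι :=
  {i | i ∈ T ∧ ¬ ∃ j ∈ T, ∃ k ∈ T, P.root i = P.root j + P.root k}

omit [Finite ι] in
theorem indec_subset (T : Set ι) : Indec P T ⊆ T := fun _ h => h.1

variable {T : Set ι}

theorem mem_natSpan_indec (hT : IsClosedSub P T) (hd : ∀ i ∈ T, P.reflectionPerm i i ∉ T)
    {i : ι} (hi : i ∈ T) : P.root i ∈ natSpan P (Indec P T) := by
  classical
  have := Fintype.ofFinite ι
  let lt : ι → Finset ι := fun a =>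
    Finset.univ.filter fun j => j ∈ T ∧ ∃ x ∈ natSpan P T, x ≠ 0 ∧ P.root a = P.root j + x
  have hirr : ∀ a, a ∉ lt a := fun a ha => by
    obtain ⟨-, -, x, -, hx0, hx⟩ := Finset.mem_filter.mp ha
    exact hx0 (by simpa using hx)
  have hsub : ∀ a b c, b ∈ T → c ∈ T → P.root a = P.root b + P.root c → lt b ⊂ lt a := by
    intro a b c hb hc habc
    have hne : ∀ x ∈ natSpan P T, x + P.root c ≠ 0 := fun x hx h0 =>
      neg_notMem_natSpan P hT hd hc (by rwa [← eq_neg_of_add_eq_zero_left h0])
    refine (Finset.ssubset_iff_of_subset fun j hj => ?_).mpr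
      ⟨b, Finset.mem_filter.mpr ⟨Finset.mem_univ _, hb, _, root_mem_natSpan P hc,
        root_ne_zero P c, habc⟩, hirr b⟩
    obtain ⟨-, hjT, x, hx, hx0, hxe⟩ := Finset.mem_filter.mp hj
    refine Finset.mem_filter.mpr ⟨Finset.mem_univ _, hjT, x + P.root c,
      add_mem hx (root_mem_natSpan P hc), hne x hx, ?_⟩
    rw [habc, hxe, add_assoc]
  have key : ∀ n, ∀ a ∈ T, (lt a).card = n → P.root a ∈ natSpan P (Indec P T) := by
    intro n
    induction n using Nat.strong_induction_on with
    | _ n ih =>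
      intro a ha hn
      by_cases hind : a ∈ Indec P T
      · exact root_mem_natSpan P hind
      · obtain ⟨b, hb, c, hc, habc⟩ := not_not.mp fun h => hind ⟨ha, h⟩
        rw [habc]
        exact add_mem
          (ih _ (hn ▸ Finset.card_lt_card (hsub a b c hb hc habc)) b hb rfl)
          (ih _ (hn ▸ Finset.card_lt_card (hsub a c b hc hb (by rw [habc, add_comm]))) c hc rfl)
  exact key _ i hi rfl

omit [Finite ι] in
theorem natSpan_coeff {S : Set ι} {x : M} (h : x ∈ natSpan P S) :
    ∃ c : ι →₀ ℤ, ↑c.support ⊆ S ∧ (∀ j, 0 ≤ c j) ∧ Finsupp.linearCombination ℤ P.root c = x := by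
  classical
  induction h using AddSubmonoid.closure_induction with
  | mem y hy =>
    obtain ⟨i, hi, rfl⟩ := hy
    refine ⟨Finsupp.single i 1, ?_, fun j => ?_, by simp⟩
    · intro j hj; have := Finsupp.support_single_subset hj; simp_all
    · by_cases hji : i = j <;> simp [Finsupp.single_apply, hji]
  | zero => exact ⟨0, by simp, by simp, by simp⟩
  | add a b _ _ ha hb =>
    obtain ⟨c, hc, hc0, rfl⟩ := ha
    obtain ⟨d, hd, hd0, rfl⟩ := hb
    refine ⟨c + d, fun j hj => ?_, fun j => add_nonneg (hc0 j) (hd0 j), by simp⟩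
    rcases Finset.mem_union.mp (Finsupp.support_add hj) with h | h
    · exact hc h
    · exact hd h

omit [Finite ι] in
theorem coeff_natSpan {S : Set ι} {c : ι →₀ ℤ} (hc : ↑c.support ⊆ S) (h0 : ∀ j, 0 ≤ c j) :
    Finsupp.linearCombination ℤ P.root c ∈ natSpan P S := by
  rw [Finsupp.linearCombination_apply]
  refine sum_mem fun j hj => ?_
  obtain ⟨n, hn⟩ := Int.eq_ofNat_of_zero_le (h0 j)
  show c j • P.root j ∈ natSpan P S
  rw [hn, natCast_zsmul]
  exact nsmul_mem (root_mem_natSpan P (hc hj)) n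

theorem linInd_of_obtuse {D : Set ι}
    (hob : ∀ i ∈ D, ∀ j ∈ D, i ≠ j → P.pairing i j ≤ 0)
    (hz : ∀ i ∈ D, -P.root i ∉ natSpan P D) : LinearIndepOn ℤ P.root D := by
  classical
  have := Fintype.ofFinite ι
  rw [linearIndepOn_iff]
  intro l hl h0
  rw [Finsupp.mem_supported] at hl
  have hnn : ∀ c : ι →₀ ℤ, ↑c.support ⊆ D → (∀ j, 0 ≤ c j) →
      Finsupp.linearCombination ℤ P.root c = 0 → c = 0 := by
    intro c hc hc0 he
    ext a
    by_contra hca
    have ha : a ∈ D := hc (Finsupp.mem_support_iff.mpr hca)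
    have hapos : 0 < c a := lt_of_le_of_ne (hc0 a) (Ne.symm hca)
    have hmem := coeff_natSpan P (S := D) (c := c - Finsupp.single a 1) ?_ ?_
    · rw [map_sub, he, Finsupp.linearCombination_single, one_smul, zero_sub] at hmem
      exact hz a ha hmem
    · intro j hj
      rcases Finset.mem_union.mp (Finsupp.support_sub hj) with h | h
      · exact hc h
      · have := Finsupp.support_single_subset h; simp_all
    · intro j
      have := hc0 j
      by_cases hja : a = j
      · subst hja; simp; omega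
      · simp [hja]; omega
  let p : ι →₀ ℤ := l.mapRange (fun n => max n 0) (by simp)
  let q : ι →₀ ℤ := l.mapRange (fun n => max (-n) 0) (by simp)
  have hpq : l = p - q := by ext j; simp [p, q]
  have hp0 : ∀ j, 0 ≤ p j := fun j => by simp [p]
  have hq0 : ∀ j, 0 ≤ q j := fun j => by simp [q]
  have hps : ↑p.support ⊆ D := fun j hj => hl (Finsupp.support_mapRange hj)
  have hqs : ↑q.support ⊆ D := fun j hj => hl (Finsupp.support_mapRange hj)
  set v := Finsupp.linearCombination ℤ P.root p with hv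
  have hvq : v = Finsupp.linearCombination ℤ P.root q := by
    rw [hpq, map_sub, sub_eq_zero] at h0; exact h0
  have hvs : v ∈ Submodule.span ℤ (Set.range P.root) :=
    Finsupp.range_linearCombination (R := ℤ) (v := P.root) ▸ LinearMap.mem_range_self _ p
  have hvv : B P v v ≤ 0 := by
    have e : B P v v = ∑ a ∈ p.support, ∑ b ∈ q.support, p a * q b * B P (P.root a) (P.root b) := by
      nth_rw 2 [hvq]
      rw [hv, Finsupp.linearCombination_apply, Finsupp.linearCombination_apply, Finsupp.sum,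
        Finsupp.sum]
      simp only [B, map_sum, LinearMap.coe_sum, Finset.sum_apply, map_zsmul,
        LinearMap.smul_apply, smul_eq_mul]
      rw [Finset.sum_comm]
      refine Finset.sum_congr rfl fun a _ => ?_
      rw [Finset.mul_sum]
      exact Finset.sum_congr rfl fun b _ => by ring
    rw [e]
    refine Finset.sum_nonpos fun a ha => Finset.sum_nonpos fun b hb => ?_
    rcases eq_or_ne a b with rfl | hab
    · have h1 : p a * q a = 0 := by simp [p, q]; omega
      simp [h1]
    · refine mul_nonpos_of_nonneg_of_nonpos (mul_nonneg (hp0 a) (hq0 b)) ?_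
      have := hob a (hps ha) b (hqs hb) hab
      rw [← P.root_coroot'_eq_pairing] at this
      by_contra hc
      exact absurd ((B_pos_iff P _ _).mp (not_le.mp hc)) (not_lt.mpr this)
  have hv0 := eq_zero_of_B_self P hvs (le_antisymm hvv (B_nonneg P v))
  rw [hpq, hnn p hps hp0 hv0, hnn q hqs hq0 (hvq ▸ hv0), sub_self]

omit [Finite ι] in
/-- `T` contains, up to sign, every root difference of two of its members. -/
def HasDiff (T : Set ι) : Prop :=
  ∀ i j k, i ∈ T → j ∈ T → P.root k = P.root i - P.root j → k ∈ T ∨ P.reflectionPerm k k ∈ T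

theorem indec_obtuse (hdiff : HasDiff P T) {i j : ι} (hi : i ∈ Indec P T) (hj : j ∈ Indec P T)
    (hne : i ≠ j) : P.pairing i j ≤ 0 := by
  have := Fintype.ofFinite ι
  by_contra hc
  obtain ⟨k, hk⟩ := exists_sub_root P (not_le.mp hc) hne
  rcases hdiff i j k hi.1 hj.1 hk with h | h
  · exact hi.2 ⟨k, h, j, hj.1, by rw [hk, sub_add_cancel]⟩
  · exact hj.2 ⟨_, h, i, hi.1, by rw [root_neg, hk]; abel⟩

theorem indec_linInd (hT : IsClosedSub P T) (hd : ∀ i ∈ T, P.reflectionPerm i i ∉ T)
    (hdiff : HasDiff P T) : LinearIndepOn ℤ P.root (Indec P T) :=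
  linInd_of_obtuse P (fun _ hi _ hj h => indec_obtuse P hdiff hi hj h) fun _ hi h =>
    neg_notMem_natSpan P hT hd hi.1 (natSpan_mono P (indec_subset P T) h)

theorem isSimpleSys_indec {S : Set ι} (hS : IsPosSys P S) : IsSimpleSys P (Indec P S) where
  linInd := indec_linInd P (posClosed hS) (fun _ h => hS.disjoint h) fun _ _ k _ _ _ => hS.cover k
  mem_or_neg_mem i := by
    rcases hS.cover i with h | h
    · exact .inl (mem_natSpan_indec P (posClosed hS) (fun _ h => hS.disjoint h) h)
    · right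
      have := mem_natSpan_indec P (posClosed hS) (fun _ h => hS.disjoint h) h
      rwa [root_neg] at this

section Simple

variable {Δ : Set ι}

omit [Finite ι] in
theorem coeff_unique (hΔ : LinearIndepOn ℤ P.root Δ) {c d : ι →₀ ℤ} (hc : ↑c.support ⊆ Δ)
    (hd : ↑d.support ⊆ Δ)
    (h : Finsupp.linearCombination ℤ P.root c = Finsupp.linearCombination ℤ P.root d) : c = d :=
  sub_eq_zero.mp <| linearIndepOn_iff.mp hΔ (c - d)
    (sub_mem (show c ∈ Finsupp.supported ℤ ℤ Δ from hc) (show d ∈ Finsupp.supported ℤ ℤ Δ from hd))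
    (by rw [map_sub, h, sub_self])

omit [Finite ι] in
theorem exists_coeff (hΔ : IsSimpleSys P Δ) (k : ι) :
    ∃ c : ι →₀ ℤ, ↑c.support ⊆ Δ ∧ ((∀ j, 0 ≤ c j) ∨ (∀ j, c j ≤ 0)) ∧
      Finsupp.linearCombination ℤ P.root c = P.root k := by
  rcases hΔ.mem_or_neg_mem k with h | h
  · obtain ⟨c, hc, h0, he⟩ := natSpan_coeff P h
    exact ⟨c, hc, .inl h0, he⟩
  · obtain ⟨c, hc, h0, he⟩ := natSpan_coeff P h
    exact ⟨-c, by simpa using hc, .inr fun j => by simpa using h0 j, by simp [he]⟩

omit [Finite ι] in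
theorem not_neg_posOf (hΔ : IsSimpleSys P Δ) {k : ι} (hk : k ∈ posOf P Δ) :
    -P.root k ∉ natSpan P Δ := by
  intro hk'
  obtain ⟨c, hc, hc0, hce⟩ := natSpan_coeff P hk
  obtain ⟨d, hd, hd0, hde⟩ := natSpan_coeff P hk'
  have hd' : ↑(-d).support ⊆ Δ := by simpa using hd
  have : c = -d := coeff_unique P hΔ.linInd hc hd' (by rw [map_neg, hde, hce, neg_neg])
  have hz : c = 0 := by
    ext j
    have h1 := hc0 j
    have h2 := hd0 j
    simp [this] at h1 ⊢
    omega
  exact root_ne_zero P k (by rw [← hce, hz, map_zero])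

theorem isPosSys_posOf (hΔ : IsSimpleSys P Δ) : IsPosSys P (posOf P Δ) := by
  refine isPosSys_of_closed P (fun i hi h => not_neg_posOf P hΔ hi ?_) (fun i => ?_) ?_
  · simpa [posOf] using h
  · simpa [posOf] using hΔ.mem_or_neg_mem i
  · intro i j k hi hj h
    show P.root k ∈ natSpan P Δ
    rw [h]
    exact add_mem hi hj

omit [Finite ι] in
theorem subset_posOf : Δ ⊆ posOf P Δ := fun _ hi => root_mem_natSpan P hi

theorem posOf_eq_of_subset (hΔ : IsSimpleSys P Δ) {S : Set ι} (hS : IsPosSys P S)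
    (h : Δ ⊆ S) : posOf P Δ = S :=
  posEqOfSubset (isPosSys_posOf P hΔ) hS fun _ hk => natSpan_closed P (posClosed hS) (natSpan_mono P h hk)

omit [Finite ι] in
theorem coeff_total_pos {c : ι →₀ ℤ} (h0 : ∀ j, 0 ≤ c j) (hc : c ≠ 0) :
    0 < c.sum fun _ a => a := by
  obtain ⟨a, ha⟩ := Finsupp.ne_iff.mp hc
  refine Finset.sum_pos' (fun j _ => h0 j) ⟨a, ?_, ?_⟩
  · simpa using ha
  · exact lt_of_le_of_ne (h0 a) (Ne.symm (by simpa using ha))

omit [Finite ι] in
theorem simple_not_sum (hΔ : IsSimpleSys P Δ) {k : ι} (hk : k ∈ Δ) :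
    ¬ ∃ i ∈ posOf P Δ, ∃ j ∈ posOf P Δ, P.root k = P.root i + P.root j := by
  rintro ⟨i, hi, j, hj, h⟩
  obtain ⟨c, hc, hc0, hce⟩ := natSpan_coeff P hi
  obtain ⟨d, hd, hd0, hde⟩ := natSpan_coeff P hj
  have hcd : ↑(c + d).support ⊆ Δ := by
    classical
    intro a ha
    rcases Finset.mem_union.mp (Finsupp.support_add ha) with h | h
    · exact hc h
    · exact hd h
  have he : c + d = Finsupp.single k 1 := coeff_unique P hΔ.linInd hcd
    (fun a ha => by have := Finsupp.support_single_subset ha; simp_all)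
    (by rw [map_add, hce, hde, Finsupp.linearCombination_single, one_smul, h])
  have hcne : c ≠ 0 := fun hz => root_ne_zero P i (by rw [← hce, hz, map_zero])
  have hdne : d ≠ 0 := fun hz => root_ne_zero P j (by rw [← hde, hz, map_zero])
  have t := congrArg (fun e : ι →₀ ℤ => e.sum fun _ a => a) he
  simp only [Finsupp.sum_single_index] at t
  rw [Finsupp.sum_add_index' (fun _ => rfl) (fun _ _ _ => rfl)] at t
  have := coeff_total_pos hc0 hcne
  have := coeff_total_pos hd0 hdne
  omega

theorem eq_indec (hΔ : IsSimpleSys P Δ) : Δ = Indec P (posOf P Δ) := by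
  have hsub : Δ ⊆ Indec P (posOf P Δ) := fun k hk =>
    ⟨subset_posOf P hk, simple_not_sum P hΔ hk⟩
  refine hsub.antisymm fun k hk => ?_
  by_contra hkΔ
  obtain ⟨c, hc, -, hce⟩ := natSpan_coeff P (hk.1 : P.root k ∈ natSpan P Δ)
  have hS := isPosSys_posOf P hΔ
  have hli := (isSimpleSys_indec P hS).linInd
  have he : c = Finsupp.single k 1 := coeff_unique P hli (hc.trans hsub)
    (fun a ha => by have := Finsupp.support_single_subset ha; simp_all)
    (by rw [hce, Finsupp.linearCombination_single, one_smul])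
  exact hkΔ (hc (by simp [he]))

theorem eq_indec_of_subset (hΔ : IsSimpleSys P Δ) {S : Set ι} (hS : IsPosSys P S) (h : Δ ⊆ S) :
    Δ = Indec P S := by
  rw [← posOf_eq_of_subset P hΔ hS h]
  exact eq_indec P hΔ

theorem posOf_indec {S : Set ι} (hS : IsPosSys P S) : posOf P (Indec P S) = S :=
  posOf_eq_of_subset P (isSimpleSys_indec P hS) hS (indec_subset P S)

theorem pairing_le_zero (hΔ : IsSimpleSys P Δ) {i j : ι} (hi : i ∈ Δ) (hj : j ∈ Δ) (hne : i ≠ j) :
    P.pairing i j ≤ 0 := by
  rw [eq_indec P hΔ] at hi hj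
  exact indec_obtuse P (fun _ _ k _ _ _ => (isPosSys_posOf P hΔ).cover k) hi hj hne

theorem isIndiv_of_mem (hΔ : IsSimpleSys P Δ) {i : ι} (hi : i ∈ Δ) : IsIndiv P i := by
  intro j hj
  rcases hΔ.mem_or_neg_mem j with h | h
  · exact simple_not_sum P hΔ hi ⟨j, h, j, h, by rw [← hj, two_zsmul]⟩
  · apply not_neg_posOf P hΔ (subset_posOf P hi)
    rw [← hj, two_zsmul, neg_add]
    exact add_mem h h

omit [Finite ι] in
theorem mem_posOf_of_coeff_pos (hΔ : IsSimpleSys P Δ) {k : ι} {c : ι →₀ ℤ}
    (hc : ↑c.support ⊆ Δ) (he : Finsupp.linearCombination ℤ P.root c = P.root k)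
    {j : ι} (hj : 0 < c j) : k ∈ posOf P Δ ∧ ∀ a, 0 ≤ c a := by
  obtain ⟨d, hd, hsgn, hde⟩ := exists_coeff P hΔ k
  obtain rfl : c = d := coeff_unique P hΔ.linInd hc hd (he.trans hde.symm)
  rcases hsgn with h | h
  · refine ⟨?_, h⟩
    show P.root k ∈ natSpan P Δ
    rw [← hde]
    exact coeff_natSpan P hc h
  · exact absurd (h j) (not_le.mpr hj)

end Simple

end Groth.Agent.RootDat.Pos
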