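import Groth.Agent.RootDat.Exist

/-! Transitivity of the Weyl group on positive systems; rational cone criterion. -/

namespace Groth.Agent.RootDat.Trans

open RootPairing Function Form RootD Pos Weyl Exist

variable {ι M N : Type*} [AddCommGroup M] [AddCommGroup N] (P : RootPairing ι ℤ M N) [Finite ι]

theorem closed_double {P' : Set ι} (hcl : IsClosedSub P P') {i k : ι}
    (hk : P.root k = (2 : ℤ) • P.root i) (hkP : k ∈ P') (hni : P.reflectionPerm i i ∈ P') :
    i ∈ P' :=
  hcl hkP hni (by rw [hk, root_neg]; module)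

theorem exists_image_subset {P' : Set ι} (hP2 : ∀ i : ι, i ∈ P' ∨ P.reflectionPerm i i ∈ P')
    (hcl : IsClosedSub P P') {S : Set ι} (hS : IsPosSys P S) :
    ∃ g : P.Aut, g ∈ P.weylGroup ∧ (fun i : ι => g • i) '' S ⊆ P' := by
  classical
  suffices h : ∀ (n : ℕ) (S : Set ι), IsPosSys P S → (S \ P').ncard = n →
      ∃ g : P.Aut, g ∈ P.weylGroup ∧ (fun i : ι => g • i) '' S ⊆ P' from h _ S hS rfl
  intro n
  induction n using Nat.strong_induction_on with
  | _ n ih =>
    intro S hS hn
    by_cases hsub : Indec P S ⊆ P'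
    · refine ⟨1, one_mem _, ?_⟩
      rintro _ ⟨k, hk, rfl⟩
      show (1 : P.Aut) • k ∈ P'
      rw [one_smul]
      exact natSpan_closed P hcl (natSpan_mono P hsub
        (mem_natSpan_indec P (posClosed hS) (fun _ h => hS.disjoint h) hk))
    · obtain ⟨i, hi, hiP⟩ := Set.not_subset.mp hsub
      have hΔ := isSimpleSys_indec P hS
      have hpo := posOf_indec P hS
      have hniP := (hP2 i).resolve_left hiP
      set s := RootPairing.Equiv.reflection P i
      have hS' := isPosSys_image P s hS
      have hmem : ∀ k ∈ (fun i : ι => s • i) '' S, k ∉ P' → k ∈ S := by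
        rintro _ ⟨k, hk, rfl⟩ hkP
        by_cases hmul : ∃ a : ℤ, P.root k = a • P.root i
        · exfalso
          obtain ⟨a, ha⟩ := hmul
          have ha' := multiple_of_posOf P hΔ (k := k) (by rw [hpo]; exact hk) hi ha
          refine hkP ?_
          show P.reflectionPerm i k ∈ P'
          rw [refl_of_multiple P hΔ ha]
          rcases ha' with rfl | rfl
          · rw [P.root.injective (by rw [ha, one_smul] : P.root k = P.root i)]
            exact hniP
          · exact hcl hniP hniP (by rw [root_neg, root_neg, ha]; module)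
        · show P.reflectionPerm i k ∈ S
          rw [← hpo] at hk ⊢
          exact refl_pos P hΔ hk hi hmul
      have hss : ((fun i : ι => s • i) '' S) \ P' ⊂ S \ P' := by
        refine ⟨fun k hk => ⟨hmem k hk.1 hk.2, hk.2⟩, fun hh => ?_⟩
        obtain ⟨⟨k, hk, hki⟩, -⟩ := hh ⟨hi.1, hiP⟩
        have hk' : k = P.reflectionPerm i i := by
          rw [← P.reflectionPerm_self i k]
          exact congrArg (P.reflectionPerm i) hki
        exact hS.disjoint hi.1 (hk' ▸ hk)
      obtain ⟨g, hg, hgS⟩ := ih _ (hn ▸ Set.ncard_lt_ncard hss (Set.toFinite _)) _ hS' rfl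
      refine ⟨g * s, mul_mem hg (P.reflection_mem_weylGroup i), ?_⟩
      rintro _ ⟨k, hk, rfl⟩
      show (g * s) • k ∈ P'
      rw [mul_smul]
      exact hgS ⟨_, ⟨k, hk, rfl⟩, rfl⟩

theorem transitive_posSys {S S' : Set ι} (hS : IsPosSys P S) (hS' : IsPosSys P S') :
    ∃ g : P.Aut, g ∈ P.weylGroup ∧ (fun i : ι => g • i) '' S = S' := by
  obtain ⟨g, hg, h⟩ := exists_image_subset P hS'.cover (posClosed hS') hS
  exact ⟨g, hg, posEqOfSubset (isPosSys_image P g hS) hS' h⟩

theorem transitive_simpleSys {Δ Δ' : Set ι} (hΔ : IsSimpleSys P Δ) (hΔ' : IsSimpleSys P Δ') :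
    ∃ g : P.Aut, g ∈ P.weylGroup ∧ (fun i : ι => g • i) '' Δ = Δ' := by
  obtain ⟨g, hg, h⟩ := transitive_posSys P (isPosSys_posOf P hΔ) (isPosSys_posOf P hΔ')
  refine ⟨g, hg, ?_⟩
  conv_rhs => rw [eq_indec P hΔ', ← h]
  refine eq_indec_of_subset P (isSimpleSys_image P g hΔ) (isPosSys_image P g (isPosSys_posOf P hΔ)) ?_
  exact Set.image_mono (subset_posOf P)

theorem indiv_dvd {i j : ι} (hind : IsIndiv P i) {a b : ℤ} (hb : b ≠ 0)
    (h : b • P.root j = a • P.root i) : b ∣ a := by
  obtain ⟨h1, h2⟩ := proportional P h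
  have h4 : P.pairing i j * P.pairing j i = 4 := by
    have : b * (P.pairing i j * P.pairing j i - 4) = 0 := by
      linear_combination P.pairing i j * h2 - 2 * h1
    have := (mul_eq_zero.mp this).resolve_left hb
    omega
  have hd : P.pairing j i ∣ 4 := ⟨P.pairing i j, by linarith⟩
  have hle := Int.le_of_dvd four_pos hd
  have hle' := Int.le_of_dvd four_pos ((neg_dvd).mpr hd)
  obtain ⟨k, hk⟩ | ⟨hone⟩ : (2 : ℤ) ∣ P.pairing j i ∨ Nonempty (P.pairing j i = 1 ∨ P.pairing j i = -1) := by
    have h3 : P.pairing j i ≠ 3 := fun e => by rw [e] at hd; norm_num at hd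
    have h3' : P.pairing j i ≠ -3 := fun e => by rw [e] at hd; norm_num at hd
    have h0 : P.pairing j i ≠ 0 := fun e => by rw [e] at h4; omega
    by_cases he : P.pairing j i = 1 ∨ P.pairing j i = -1
    · exact .inr ⟨he⟩
    · left; omega
  · exact ⟨k, by rw [hk] at h2; linarith⟩
  · exfalso
    have ha : a ≠ 0 := by rintro rfl; simp at h1; exact hb h1
    rcases hone with e | e <;> rw [e] at h2
    · refine hind j (cancel P ha ?_)
      rw [← h, show b = 2 * a by linarith]; module
    · refine hind (P.reflectionPerm j j) (cancel P ha ?_)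
      rw [root_neg, ← h, show b = -(2 * a) by linarith]; module

theorem exists_ratio {i j : ι} (hind : IsIndiv P i) {a b : ℤ} (hb : 0 < b) (ha : 0 ≤ a)
    (h : b • P.root j = a • P.root i) : ∃ t : ℤ, P.root j = t • P.root i ∧ 0 < t := by
  obtain ⟨t, rfl⟩ := indiv_dvd P hind hb.ne' h
  have ht : P.root j = t • P.root i := cancel P hb.ne' (by rw [h, mul_smul])
  refine ⟨t, ht, ?_⟩
  have h0 : t ≠ 0 := fun e => root_ne_zero P j (by rw [ht, e, zero_smul])
  exact lt_of_le_of_ne (nonneg_of_mul_nonneg_right ha hb) (Ne.symm h0)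

theorem isSimpleSys_of_cone {Δ : Set ι} (hind : ∀ i ∈ Δ, IsIndiv P i)
    (hli : LinearIndepOn ℤ P.root Δ)
    (hcone : ∀ k : ι, ∃ n : ℕ, 0 < n ∧
      (n • P.root k ∈ natSpan P Δ ∨ n • (-P.root k) ∈ natSpan P Δ)) :
    IsSimpleSys P Δ := by
  classical
  let T : Set ι := {k | ∃ n : ℕ, 0 < n ∧ n • P.root k ∈ natSpan P Δ}
  have hnn : ∀ x, x ∈ natSpan P Δ → -x ∈ natSpan P Δ → x = 0 := fun x h1 h2 => by
    obtain ⟨c, hc, hc0, hce⟩ := natSpan_coeff P h1
    obtain ⟨d, hd, hd0, hde⟩ := natSpan_coeff P h2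
    have hcd : c = -d := coeff_unique P hli hc (by simpa using hd)
      (by rw [map_neg, hde, hce, neg_neg])
    have hz : c = 0 := by
      ext j
      have := hc0 j; have := hd0 j
      simp [hcd] at *
      omega
    rw [← hce, hz, map_zero]
  have hT : IsPosSys P T := by
    refine isPosSys_of_closed P (fun i hi hn => ?_) (fun i => ?_) fun i j k hi hj h => ?_
    · obtain ⟨n, hn0, h1⟩ := hi
      obtain ⟨m, hm0, h2⟩ := hn
      rw [root_neg, smul_neg] at h2
      have e1 := nsmul_mem h1 m
      have e2 := nsmul_mem h2 n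
      rw [smul_neg, ← mul_smul, mul_comm, mul_smul] at e2
      have h0 := hnn _ e1 e2
      rw [← mul_smul, ← natCast_zsmul] at h0
      exact root_ne_zero P i (eq_zero_of_zsmul P (by exact_mod_cast (by positivity : m * n ≠ 0)) h0)
    · obtain ⟨n, hn, h | h⟩ := hcone i
      · exact .inl ⟨n, hn, h⟩
      · exact .inr ⟨n, hn, by rwa [root_neg]⟩
    · obtain ⟨n, hn, h1⟩ := hi
      obtain ⟨m, hm, h2⟩ := hj
      refine ⟨n * m, by positivity, ?_⟩
      rw [h, smul_add]
      refine add_mem ?_ ?_
      · rw [mul_comm, mul_smul]; exact nsmul_mem h1 m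
      · rw [mul_smul]; exact nsmul_mem h2 n
  have h0 := isSimpleSys_indec P hT
  suffices hsub : Δ ⊆ Indec P T by
    suffices Indec P T = Δ from this ▸ h0
    refine (Set.Subset.antisymm hsub fun b hb => ?_).symm
    by_contra hbΔ
    obtain ⟨n, hn, h⟩ := hb.1
    obtain ⟨c, hc, -, hce⟩ := natSpan_coeff P h
    have e : c = Finsupp.single b (n : ℤ) := coeff_unique P h0.linInd (hc.trans hsub)
      (fun a ha => by have := Finsupp.support_single_subset ha; simp_all)
      (by rw [hce, Finsupp.linearCombination_single, natCast_zsmul])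
    exact hbΔ (hc (by simp [e, hn.ne']))
  intro d hd
  have hdT : d ∈ T := ⟨1, one_pos, by rw [one_smul]; exact root_mem_natSpan P hd⟩
  refine ⟨hdT, ?_⟩
  rintro ⟨b, hb, c, hc, h⟩
  obtain ⟨n, hn, h1⟩ := hb
  obtain ⟨m, hm, h2⟩ := hc
  obtain ⟨p, hp, hp0, hpe⟩ := natSpan_coeff P h1
  obtain ⟨q, hq, hq0, hqe⟩ := natSpan_coeff P h2
  have he : (m : ℤ) • p + (n : ℤ) • q = Finsupp.single d ((n : ℤ) * m) := by
    refine coeff_unique P hli ?_ ?_ ?_
    · intro a ha
      rcases Finset.mem_union.mp (Finsupp.support_add ha) with h | h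
      · exact hp (Finsupp.support_smul h)
      · exact hq (Finsupp.support_smul h)
    · intro a ha; have := Finsupp.support_single_subset ha; simp_all
    · rw [map_add, map_zsmul, map_zsmul, hpe, hqe, Finsupp.linearCombination_single, h]
      module
  have hps : p = Finsupp.single d (p d) := by
    ext a
    by_cases ha : a = d
    · subst ha; simp
    · rw [Finsupp.single_eq_of_ne ha]
      have := DFunLike.congr_fun he a
      simp [Finsupp.single_eq_of_ne ha] at this
      have h3 : 0 ≤ (m : ℤ) * p a := mul_nonneg (by positivity) (hp0 a)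
      have h4 : 0 ≤ (n : ℤ) * q a := mul_nonneg (by positivity) (hq0 a)
      have : (m : ℤ) * p a = 0 := by omega
      simpa [hm.ne'] using this
  have hb' : (n : ℤ) • P.root b = p d • P.root d := by
    rw [natCast_zsmul, ← hpe]
    conv_lhs => rw [hps, Finsupp.linearCombination_single]
  have hqs : q = Finsupp.single d (q d) := by
    ext a
    by_cases ha : a = d
    · subst ha; simp
    · rw [Finsupp.single_eq_of_ne ha]
      have := DFunLike.congr_fun he a
      simp [Finsupp.single_eq_of_ne ha] at this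
      have h3 : 0 ≤ (m : ℤ) * p a := mul_nonneg (by positivity) (hp0 a)
      have h4 : 0 ≤ (n : ℤ) * q a := mul_nonneg (by positivity) (hq0 a)
      have : (n : ℤ) * q a = 0 := by omega
      simpa [hn.ne'] using this
  have hc' : (m : ℤ) • P.root c = q d • P.root d := by
    rw [natCast_zsmul, ← hqe]
    conv_lhs => rw [hqs, Finsupp.linearCombination_single]
  obtain ⟨t, ht, ht0⟩ : ∃ t : ℤ, P.root b = t • P.root d ∧ 0 < t :=
    exists_ratio P (hind d hd) (by exact_mod_cast hn) (hp0 d) hb'
  obtain ⟨u, hu, hu0⟩ : ∃ u : ℤ, P.root c = u • P.root d ∧ 0 < u :=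
    exists_ratio P (hind d hd) (by exact_mod_cast hm) (hq0 d) hc'
  have : (t + u - 1) • P.root d = 0 := by
    rw [sub_smul, add_smul, ← ht, ← hu, ← h, one_smul, sub_self]
  exact root_ne_zero P d (eq_zero_of_zsmul P (by omega) this)

end Groth.Agent.RootDat.Trans
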