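import Groth.Agent.RootDat.Weyl
import Groth.Agent.RootDat.Exist
import Groth.Agent.RootDat.Trans
import Groth.Agent.RootDat.BaseB
import Mathlib.LinearAlgebra.RootSystem.Finite.Nondegenerate
import Mathlib.LinearAlgebra.RootSystem.IsValuedIn
import Mathlib.LinearAlgebra.PerfectPairing.Basic
import Mathlib.LinearAlgebra.FreeModule.PID

/-! A crystallographic root pairing over a domain of characteristic zero has an integral shadow on
the lattice spanned by its roots. -/

open Function Set

namespace Groth.Agent.RootDat.Shadow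

variable {ι R M N : Type*} [CommRing R] [CharZero R] [IsDomain R] [AddCommGroup M] [Module R M]
  [AddCommGroup N] [Module R N] (P : RootPairing ι R M N) [Finite ι] [P.IsCrystallographic]

theorem eq_zero_of_coroot' {x : M} (hx : x ∈ Submodule.span R (range P.root))
    (h : ∀ i, P.coroot' i x = 0) : x = 0 := by
  have : Fintype ι := Fintype.ofFinite ι
  refine Submodule.disjoint_def.mp P.disjoint_rootSpan_ker_rootForm x hx ?_
  refine LinearMap.mem_ker.mpr (LinearMap.ext fun y => ?_)
  rw [P.rootForm_apply_apply, LinearMap.zero_apply]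
  exact Finset.sum_eq_zero fun i _ => by rw [h, zero_mul]

theorem eq_zero_of_root' {y : N} (hy : y ∈ Submodule.span R (range P.coroot))
    (h : ∀ i, P.root' i y = 0) : y = 0 :=
  eq_zero_of_coroot' P.flip hy h

theorem coroot'In_cast (i : ι) (x : P.rootSpan ℤ) :
    ((P.coroot'In ℤ i x : ℤ) : R) = P.coroot' i (x : M) := by
  have := P.algebraMap_coroot'In_apply ℤ i x
  simpa using this

theorem pairingIn_cast (i j : ι) : ((P.pairingIn ℤ i j : ℤ) : R) = P.pairing i j := by
  have := P.algebraMap_pairingIn ℤ i j
  simpa using this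

theorem coroot'In_root (i j : ι) : P.coroot'In ℤ i (P.rootSpanMem ℤ j) = P.pairingIn ℤ j i :=
  P.coroot'In_rootSpanMem_eq_pairingIn i j ℤ

include P in
theorem tf : IsAddTorsionFree M := by
  have : Module.IsReflexive R M := .of_isPerfPair P.toLinearMap
  exact .of_isTorsionFree R M

instance rootSpan_finite : Module.Finite ℤ (P.rootSpan ℤ) :=
  Module.Finite.span_of_finite ℤ (Set.finite_range P.root)

instance rootSpan_free : Module.Free ℤ (P.rootSpan ℤ) := by
  have : IsAddTorsionFree M := tf P
  infer_instance

theorem coroot'In_injective : Injective fun i => (P.coroot'In ℤ i : Module.Dual ℤ (P.rootSpan ℤ)) := by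
  intro i j h
  refine P.coroot.injective (sub_eq_zero.mp (eq_zero_of_root' P ?_ fun k => ?_))
  · exact sub_mem (Submodule.subset_span ⟨i, rfl⟩) (Submodule.subset_span ⟨j, rfl⟩)
  · have h1 := congrArg (fun z : ℤ => (z : R)) (LinearMap.congr_fun h (P.rootSpanMem ℤ k))
    simp only [coroot'In_root, pairingIn_cast] at h1
    rw [map_sub, sub_eq_zero]
    exact h1

/-- the integral shadow on the root lattice -/
noncomputable def shadow :
    RootPairing ι ℤ (P.rootSpan ℤ) (Module.Dual ℤ (P.rootSpan ℤ)) :=
  { Module.Dual.eval ℤ (P.rootSpan ℤ) with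
    isPerfPair_toLinearMap := LinearMap.IsPerfPair.dualEval
    root := ⟨fun i => P.rootSpanMem ℤ i, fun _ _ h => P.root.injective (congrArg Subtype.val h)⟩
    coroot := ⟨fun i => P.coroot'In ℤ i, coroot'In_injective P⟩
    root_coroot_two := fun i => by
      show P.coroot'In ℤ i (P.rootSpanMem ℤ i) = 2
      rw [coroot'In_root, P.pairingIn_same]
    reflectionPerm := P.reflectionPerm
    reflectionPerm_root := fun i j => Subtype.ext <| by
      show P.root j - P.coroot'In ℤ i (P.rootSpanMem ℤ j) • P.root i = P.root (P.reflectionPerm i j)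
      rw [coroot'In_root, P.root_reflectionPerm, P.reflection_apply_root, ← pairingIn_cast P,
        Int.cast_smul_eq_zsmul]
    reflectionPerm_coroot := fun i j => LinearMap.ext fun x => by
      show P.coroot'In ℤ j x - P.coroot'In ℤ j (P.rootSpanMem ℤ i) * P.coroot'In ℤ i x =
        P.coroot'In ℤ (P.reflectionPerm i j) x
      apply Int.cast_injective (α := R)
      rw [Int.cast_sub, Int.cast_mul, coroot'In_root, pairingIn_cast, coroot'In_cast,
        coroot'In_cast, coroot'In_cast]
      show _ = P.toLinearMap (x : M) (P.coroot (P.reflectionPerm i j))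
      rw [P.coroot_reflectionPerm, P.coreflection_apply_coroot, map_sub, map_smul, smul_eq_mul]
      rfl }

theorem shadow_root (i : ι) : (((shadow P).root i : P.rootSpan ℤ) : M) = P.root i := rfl

theorem shadow_coroot (i : ι) : (shadow P).coroot i = P.coroot'In ℤ i := rfl

theorem shadow_pairing (i j : ι) : (shadow P).pairing i j = P.pairingIn ℤ i j :=
  coroot'In_root P j i

instance shadow_reduced [P.IsReduced] : (shadow P).IsReduced where
  eq_or_eq_neg i j h := by
    refine (RootPairing.IsReduced.eq_or_eq_neg i j ?_).imp (fun e => Subtype.ext e) fun e => Subtype.ext e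
    intro hli
    refine h (LinearIndependent.pair_iff.mpr fun s t hst => ?_)
    have h1 := congrArg (fun z : P.rootSpan ℤ => (z : M)) hst
    simp only [Submodule.coe_add, Submodule.coe_smul, shadow_root, Submodule.coe_zero] at h1
    rw [← Int.cast_smul_eq_zsmul R s, ← Int.cast_smul_eq_zsmul R t] at h1
    simpa using LinearIndependent.pair_iff.mp hli _ _ h1

/-- a base gives a base of the shadow -/
noncomputable def base (b : P.Base) : (shadow P).Base where
  support := b.support
  linearIndepOn_root := by
    rw [linearIndepOn_finset_iff]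
    intro c hc i hi
    have h1 := congrArg (fun z : P.rootSpan ℤ => (z : M)) hc
    simp only [Submodule.coe_sum, Submodule.coe_smul, shadow_root, Submodule.coe_zero] at h1
    simp_rw [← Int.cast_smul_eq_zsmul R] at h1
    simpa using linearIndepOn_finset_iff.mp b.linearIndepOn_root _ h1 i hi
  linearIndepOn_coroot := by
    rw [linearIndepOn_finset_iff]
    intro c hc i hi
    have h1 : ∑ j ∈ b.support, ((c j : ℤ) : R) • P.coroot j = 0 := by
      refine eq_zero_of_root' P (Submodule.sum_mem _ fun j _ => Submodule.smul_mem _ _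
        (Submodule.subset_span ⟨j, rfl⟩)) fun k => ?_
      have h2 := congrArg (fun z : ℤ => (z : R)) (LinearMap.congr_fun hc (P.rootSpanMem ℤ k))
      simp only [LinearMap.sum_apply, LinearMap.smul_apply, shadow_coroot, coroot'In_root,
        smul_eq_mul, Int.cast_sum, Int.cast_mul, pairingIn_cast, LinearMap.zero_apply,
        Int.cast_zero] at h2
      simpa [map_sum, map_smul] using h2
    simpa using linearIndepOn_finset_iff.mp b.linearIndepOn_coroot _ h1 i hi
  root_mem_or_neg_mem i := by
    have key : ∀ x : P.rootSpan ℤ, (x : M) ∈ AddSubmonoid.closure (P.root '' b.support) →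
        x ∈ AddSubmonoid.closure ((shadow P).root '' b.support) := by
      intro x hx
      have : AddSubmonoid.closure (P.root '' b.support) =
          (AddSubmonoid.closure ((shadow P).root '' b.support)).map
            ((P.rootSpan ℤ).subtype.toAddMonoidHom) := by
        rw [AddMonoidHom.map_mclosure, Set.image_image]
        rfl
      rw [this] at hx
      obtain ⟨y, hy, hyx⟩ := AddSubmonoid.mem_map.mp hx
      rwa [← Subtype.ext (hyx : (y : M) = x)]
    exact (b.root_mem_or_neg_mem i).imp (key _) (key (-(shadow P).root i))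
  coroot_mem_or_neg_mem i := by
    let S : Set ι := ↑b.support
    have key : ∀ y : N, y ∈ AddSubmonoid.closure (P.coroot '' S) →
        ∃ F : Module.Dual ℤ (P.rootSpan ℤ), F ∈ AddSubmonoid.closure ((shadow P).coroot '' S) ∧
          ∀ x : P.rootSpan ℤ, ((F x : ℤ) : R) = P.toLinearMap (x : M) y := by
      intro y hy
      induction hy using AddSubmonoid.closure_induction with
      | mem y hy =>
        obtain ⟨j, hj, rfl⟩ := hy
        exact ⟨_, AddSubmonoid.subset_closure ⟨j, hj, rfl⟩, fun x => coroot'In_cast P j x⟩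
      | zero => exact ⟨0, zero_mem _, fun x => by simp⟩
      | add y z _ _ hy hz =>
        obtain ⟨F, hF, hF'⟩ := hy
        obtain ⟨G, hG, hG'⟩ := hz
        exact ⟨F + G, add_mem hF hG, fun x => by simp [hF', hG']⟩
    rcases b.coroot_mem_or_neg_mem i with h | h
    · obtain ⟨F, hF, hF'⟩ := key _ h
      left
      have : F = (shadow P).coroot i := LinearMap.ext fun x =>
        Int.cast_injective (α := R) ((hF' x).trans (coroot'In_cast P i x).symm)
      rwa [← this]
    · obtain ⟨F, hF, hF'⟩ := key _ h
      right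
      have : F = -(shadow P).coroot i := LinearMap.ext fun x => Int.cast_injective (α := R) (by
        show ((F x : ℤ) : R) = ((-(P.coroot'In ℤ i x) : ℤ) : R)
        rw [hF', Int.cast_neg, coroot'In_cast, map_neg]; rfl)
      rwa [← this]

/-- an automorphism in the Weyl group fixing all the roots is trivial -/
theorem eq_one_of_fix {g : P.Aut} (hg : g ∈ P.weylGroup) (h : ∀ i : ι, g • i = i) : g = 1 := by
  have key : ∀ g ∈ P.weylGroup, ∀ x : M,
      g • x - x ∈ Submodule.span R (range P.root) ∧
      ∀ j, P.coroot' (g • j) (g • x) = P.coroot' j x := by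
    intro g hg
    induction hg using RootPairing.weylGroup.induction with
    | mem i =>
      intro x
      refine ⟨?_, fun j => ?_⟩
      · show P.reflection i x - x ∈ _
        rw [P.reflection_apply, sub_sub_cancel_left]
        exact neg_mem (Submodule.smul_mem _ _ (Submodule.subset_span ⟨i, rfl⟩))
      · show P.coroot' (P.reflectionPerm i j) (P.reflection i x) = _
        rw [P.coroot'_reflection, P.reflectionPerm_self]
    | one => intro x; exact ⟨by simp, fun j => by simp⟩
    | mul g₁ g₂ _ _ h₁ h₂ =>
      intro x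
      refine ⟨?_, fun j => ?_⟩
      · rw [mul_smul, show g₁ • g₂ • x - x = (g₁ • g₂ • x - g₂ • x) + (g₂ • x - x) by abel]
        exact add_mem (h₁ _).1 (h₂ x).1
      · rw [mul_smul, mul_smul, (h₁ _).2, (h₂ x).2]
  refine RootPairing.Equiv.weightHom_injective P ?_
  rw [map_one]
  ext x
  show g • x = x
  refine sub_eq_zero.mp (eq_zero_of_coroot' P (key g hg x).1 fun j => ?_)
  rw [map_sub, sub_eq_zero]
  have := (key g hg x).2 j
  rwa [h j] at this

theorem exists_shadow_weyl {g : P.Aut} (hg : g ∈ P.weylGroup) :
    ∃ g' ∈ (shadow P).weylGroup, ∀ i : ι, g' • i = g • i := by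
  induction hg using RootPairing.weylGroup.induction with
  | mem i => exact ⟨_, (shadow P).reflection_mem_weylGroup i, fun _ => rfl⟩
  | one => exact ⟨1, one_mem _, fun _ => by simp⟩
  | mul g₁ g₂ _ _ h₁ h₂ =>
    obtain ⟨a, ha, ha'⟩ := h₁
    obtain ⟨c, hc, hc'⟩ := h₂
    exact ⟨a * c, mul_mem ha hc, fun i => by rw [mul_smul, mul_smul, hc', ha']⟩

theorem exists_lift_closure (S : Set ι) {g' : (shadow P).Aut}
    (hg : g' ∈ Subgroup.closure ((fun i => RootPairing.Equiv.reflection (shadow P) i) '' S)) :
    ∃ g ∈ Subgroup.closure ((fun i => RootPairing.Equiv.reflection P i) '' S),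
      ∀ i : ι, g • i = g' • i := by
  induction hg using Subgroup.closure_induction with
  | mem x hx =>
    obtain ⟨j, hj, rfl⟩ := hx
    exact ⟨_, Subgroup.subset_closure ⟨j, hj, rfl⟩, fun _ => rfl⟩
  | one => exact ⟨1, one_mem _, fun _ => by simp⟩
  | mul x y _ _ hx hy =>
    obtain ⟨a, ha, ha'⟩ := hx
    obtain ⟨c, hc, hc'⟩ := hy
    exact ⟨a * c, mul_mem ha hc, fun i => by rw [mul_smul, mul_smul, hc', ha']⟩
  | inv x _ hx =>
    obtain ⟨a, ha, ha'⟩ := hx
    refine ⟨a⁻¹, inv_mem ha, fun i => ?_⟩
    rw [inv_smul_eq_iff, ha', smul_inv_smul]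

theorem exists_lift_weyl {g' : (shadow P).Aut} (hg : g' ∈ (shadow P).weylGroup) :
    ∃ g ∈ P.weylGroup, ∀ i : ι, g • i = g' • i := by
  obtain ⟨g, h, hg'⟩ := exists_lift_closure P Set.univ (by rwa [Set.image_univ])
  rw [Set.image_univ] at h
  exact ⟨g, h, hg'⟩

theorem closure_simple [P.IsReduced] (b : P.Base) :
    Subgroup.closure ((fun i : ι => RootPairing.Equiv.reflection P i) '' (b.support : Set ι)) =
      P.weylGroup := by
  have hle : Subgroup.closure ((fun i : ι => RootPairing.Equiv.reflection P i) '' (b.support : Set ι))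
      ≤ P.weylGroup := Subgroup.closure_mono (Set.image_subset_range _ _)
  refine le_antisymm hle fun g hg => ?_
  obtain ⟨g', hg', he⟩ := exists_shadow_weyl P hg
  rw [← Weyl.closure_simple (shadow P) (BaseB.isSimpleSys_base (base P b))] at hg'
  obtain ⟨g₁, h₁, he₁⟩ := exists_lift_closure P _ hg'
  suffices g = g₁ by rw [this]; exact h₁
  refine mul_inv_eq_one.mp (eq_one_of_fix P (mul_mem hg (inv_mem (hle h₁))) fun i => ?_)
  have e := he₁ (g₁⁻¹ • i)
  rw [smul_inv_smul, he] at e
  rw [mul_smul, ← e]

end Groth.Agent.RootDat.Shadow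

namespace Groth.Agent.RootDat.Shadow

variable {ι R M N : Type*} [CommRing R] [CharZero R] [IsDomain R] [AddCommGroup M] [Module R M]
  [AddCommGroup N] [Module R N] (P : RootPairing ι R M N) [Finite ι] [P.IsCrystallographic]

theorem height_base (b : P.Base) (i : ι) : (base P b).height i = b.height i := by
  obtain ⟨f, -, -, hf⟩ := (base P b).exists_root_eq_sum_int i
  rw [RootPairing.Base.height_eq_sum hf, RootPairing.Base.height_eq_sum (b := b) (f := f)]
  · rfl
  · have h1 := congrArg (fun z : P.rootSpan ℤ => (z : M)) hf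
    simp only [Submodule.coe_sum, Submodule.coe_smul, shadow_root] at h1
    exact h1

theorem isPos_base (b : P.Base) (i : ι) : (base P b).IsPos i ↔ b.IsPos i := by
  rw [RootPairing.Base.isPos_iff, RootPairing.Base.isPos_iff, height_base]

/-- the Weyl group element preserving positivity is trivial -/
theorem eq_one_of_pos [P.IsReduced] (b : P.Base) {g : P.Aut} (hg : g ∈ P.weylGroup)
    (h : ∀ i ∈ b.support, b.IsPos (g • i)) : g = 1 := by
  obtain ⟨g', hg', he⟩ := exists_shadow_weyl P hg
  have h1 : g' = 1 := Weyl.eq_one_of_maps_pos (shadow P) (BaseB.isSimpleSys_base (base P b)) hg'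
    fun i hi => by
      refine (BaseB.isPos_iff_posOf (base P b) _).mp ?_
      rw [isPos_base, he]
      exact h i hi
  exact eq_one_of_fix P hg fun i => by rw [← he, h1, one_smul]

end Groth.Agent.RootDat.Shadow
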