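import Groth.Agent.RootDat.Pos

/-! The Weyl group of a root pairing over `ℤ` relative to a simple system. -/

namespace Groth.Agent.RootDat.Weyl

open RootPairing Function Form RootD Pos

variable {ι M N : Type*} [AddCommGroup M] [AddCommGroup N] (P : RootPairing ι ℤ M N)

theorem smul_neg_idx (g : P.Aut) (i : ι) :
    g • P.reflectionPerm i i = P.reflectionPerm (g • i) (g • i) :=
  P.root.injective (by rw [root_smul, root_neg, root_neg, smul_neg, root_smul])

theorem root_add_smul (g : P.Aut) {i j k : ι} (h : P.root k = P.root i + P.root j) :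
    P.root (g • k) = P.root (g • i) + P.root (g • j) := by
  simp only [root_smul, h, smul_add]

theorem root_zsmul_smul (g : P.Aut) {i j : ι} {a : ℤ} (h : P.root j = a • P.root i) :
    P.root (g • j) = a • P.root (g • i) := by
  rw [root_smul, root_smul, h, smul_zsmul']

theorem mem_image_iff (g : P.Aut) (S : Set ι) (i : ι) :
    i ∈ (fun i : ι => g • i) '' S ↔ g⁻¹ • i ∈ S :=
  ⟨fun ⟨j, hj, h⟩ => by rw [← h, inv_smul_smul]; exact hj, fun h => ⟨_, h, smul_inv_smul g i⟩⟩

theorem smul_natSpan (g : P.Aut) {S : Set ι} {x : M} (h : x ∈ natSpan P S) :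
    g • x ∈ natSpan P ((fun i : ι => g • i) '' S) := by
  induction h using AddSubmonoid.closure_induction with
  | mem y hy =>
    obtain ⟨i, hi, rfl⟩ := hy
    rw [← root_smul]
    exact root_mem_natSpan P ⟨i, hi, rfl⟩
  | zero => rw [smul_zero]; exact zero_mem _
  | add a b _ _ ha hb => rw [smul_add]; exact add_mem ha hb

theorem proportional {i j : ι} {a b : ℤ} (h : b • P.root j = a • P.root i) :
    2 * b = a * P.pairing i j ∧ b * P.pairing j i = 2 * a := by
  constructor
  · have := congrArg (P.coroot' j) h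
    simp only [map_zsmul, smul_eq_mul, P.root_coroot'_eq_pairing, P.pairing_same] at this
    linarith
  · have := congrArg (P.coroot' i) h
    simp only [map_zsmul, smul_eq_mul, P.root_coroot'_eq_pairing, P.pairing_same] at this
    linarith

theorem multiple_cases {i j : ι} {a : ℤ} (h : P.root j = a • P.root i) :
    a = 1 ∨ a = 2 ∨ a = -1 ∨ a = -2 := by
  have h2 := (proportional P (i := i) (j := j) (a := a) (b := 1) (by rwa [one_smul])).1
  have hd : a ∣ 2 := ⟨P.pairing i j, by linarith⟩
  have hle := Int.le_of_dvd two_pos hd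
  have hle' := Int.le_of_dvd two_pos ((neg_dvd).mpr hd)
  have : a ≠ 0 := by rintro rfl; simp at h2
  omega

theorem isIndiv_smul (g : P.Aut) {i : ι} (h : IsIndiv P i) : IsIndiv P (g • i) := fun j hj =>
  h (g⁻¹ • j) (by rw [← root_zsmul_smul P g⁻¹ hj.symm, inv_smul_smul])

theorem isIndiv_neg {i : ι} (h : IsIndiv P i) : IsIndiv P (P.reflectionPerm i i) := fun j hj =>
  h (P.reflectionPerm j j) (by rw [root_neg, smul_neg, hj, root_neg, neg_neg])

theorem isIndiv_half {i j : ι} (h : (2 : ℤ) • P.root j = P.root i) : IsIndiv P j := fun k hk => by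
  have := multiple_cases P (i := k) (j := i) (a := 4) (by rw [← h, ← hk, ← mul_smul]; norm_num)
  omega

/-- The product of the reflections along a word. -/
noncomputable def word (l : List ι) : P.Aut := (l.map fun a => RootPairing.Equiv.reflection P a).prod

theorem word_nil : word P [] = 1 := rfl

theorem word_cons (a : ι) (l : List ι) :
    word P (a :: l) = RootPairing.Equiv.reflection P a * word P l := List.prod_cons

theorem word_append (l l' : List ι) : word P (l ++ l') = word P l * word P l' := by
  simp [word]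

theorem word_concat (l : List ι) (a : ι) :
    word P (l ++ [a]) = word P l * RootPairing.Equiv.reflection P a := by
  simp [word]

theorem word_mem {D : Set ι} {l : List ι} (hl : ∀ a ∈ l, a ∈ D) :
    word P l ∈ Subgroup.closure ((fun i : ι => RootPairing.Equiv.reflection P i) '' D) :=
  Subgroup.list_prod_mem _ fun x hx => by
    obtain ⟨a, ha, rfl⟩ := List.mem_map.mp hx
    exact Subgroup.subset_closure ⟨a, hl a ha, rfl⟩

theorem word_mem_weylGroup (l : List ι) : word P l ∈ P.weylGroup :=
  Subgroup.list_prod_mem _ fun x hx => by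
    obtain ⟨a, -, rfl⟩ := List.mem_map.mp hx
    exact P.reflection_mem_weylGroup a

theorem word_reverse (l : List ι) : (word P l)⁻¹ = word P l.reverse := by
  induction l with
  | nil => simp [word]
  | cons a l ih => rw [word_cons, mul_inv_rev, ih, refl_inv, List.reverse_cons, word_concat]

theorem exists_word {D : Set ι} {g : P.Aut}
    (hg : g ∈ Subgroup.closure ((fun i : ι => RootPairing.Equiv.reflection P i) '' D)) :
    ∃ l : List ι, (∀ a ∈ l, a ∈ D) ∧ word P l = g := by
  induction hg using Subgroup.closure_induction with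
  | mem x hx =>
    obtain ⟨a, ha, rfl⟩ := hx
    exact ⟨[a], by simpa using ha, by simp [word]⟩
  | one => exact ⟨[], by simp, rfl⟩
  | mul x y _ _ hx hy =>
    obtain ⟨l, hl, rfl⟩ := hx
    obtain ⟨m, hm, rfl⟩ := hy
    exact ⟨l ++ m, fun a ha => (List.mem_append.mp ha).elim (hl a) (hm a), word_append P l m⟩
  | inv x _ hx =>
    obtain ⟨l, hl, rfl⟩ := hx
    exact ⟨l.reverse, fun a ha => hl a (List.mem_reverse.mp ha), (word_reverse P l).symm⟩

/-- `l` is a shortest word in `D` for its product. -/
def IsMinWord (D : Set ι) (l : List ι) : Prop :=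
  (∀ a ∈ l, a ∈ D) ∧ ∀ l' : List ι, (∀ a ∈ l', a ∈ D) → word P l' = word P l → l.length ≤ l'.length

theorem exists_minWord {D : Set ι} {g : P.Aut}
    (hg : g ∈ Subgroup.closure ((fun i : ι => RootPairing.Equiv.reflection P i) '' D)) :
    ∃ l : List ι, IsMinWord P D l ∧ word P l = g := by
  classical
  have hex : ∃ n, ∃ l : List ι, (∀ a ∈ l, a ∈ D) ∧ word P l = g ∧ l.length = n := by
    obtain ⟨l, hl, he⟩ := exists_word P hg
    exact ⟨_, l, hl, he, rfl⟩
  obtain ⟨l, hl, he, hlen⟩ := Nat.find_spec hex
  exact ⟨l, ⟨hl, fun l' hl' he' => hlen ▸ Nat.find_min' hex ⟨l', hl', he'.trans he, rfl⟩⟩, he⟩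

theorem IsMinWord.init {D : Set ι} {l : List ι} {a : ι} (h : IsMinWord P D (l ++ [a])) :
    IsMinWord P D l := by
  refine ⟨fun b hb => h.1 b (List.mem_append_left _ hb), fun m hm he => ?_⟩
  have := h.2 (m ++ [a]) (fun b hb => (List.mem_append.mp hb).elim (hm b)
    fun hb => h.1 b (List.mem_append_right _ hb)) (by rw [word_concat, word_concat, he])
  simpa using this

variable [Finite ι]

theorem image_closed (g : P.Aut) {S : Set ι} (h : IsClosedSub P S) :
    IsClosedSub P ((fun i : ι => g • i) '' S) := fun i j k hi hj hk => by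
  rw [mem_image_iff] at hi hj ⊢
  exact h hi hj (root_add_smul P g⁻¹ hk)

theorem isPosSys_image (g : P.Aut) {S : Set ι} (hS : IsPosSys P S) :
    IsPosSys P ((fun i : ι => g • i) '' S) := by
  refine isPosSys_of_closed P (fun i hi h => ?_) (fun i => ?_) (image_closed P g (posClosed hS))
  · rw [mem_image_iff] at hi h
    rw [smul_neg_idx] at h
    exact hS.disjoint hi h
  · simp only [mem_image_iff, smul_neg_idx]
    exact hS.cover _

omit [Finite ι] in
theorem isSimpleSys_image (g : P.Aut) {Δ : Set ι} (hΔ : IsSimpleSys P Δ) :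
    IsSimpleSys P ((fun i : ι => g • i) '' Δ) where
  linInd := by
    have h1 : LinearIndepOn ℤ (P.root ∘ fun i : ι => g • i) Δ := by
      have h2 := hΔ.linInd.map' (RootPairing.Equiv.weightHom P g).toLinearMap
        (LinearEquiv.ker _)
      have : (P.root ∘ fun i : ι => g • i) =
          fun i => (RootPairing.Equiv.weightHom P g).toLinearMap (P.root i) :=
        funext fun i => root_smul P g i
      rw [this]; exact h2
    exact (linearIndependent_equiv
      (Equiv.Set.image (fun i : ι => g • i) Δ (MulAction.injective g))).mp h1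
  mem_or_neg_mem i := by
    have key := hΔ.mem_or_neg_mem (g⁻¹ • i)
    have e : P.root i = g • P.root (g⁻¹ • i) := by rw [← root_smul, smul_inv_smul]
    rcases key with h | h
    · exact .inl (e ▸ smul_natSpan P g h)
    · right
      have := smul_natSpan P g h
      rwa [smul_neg, ← e] at this

omit [Finite ι] in
theorem posOf_image (g : P.Aut) {Δ : Set ι} :
    (fun i : ι => g • i) '' posOf P Δ ⊆ posOf P ((fun i : ι => g • i) '' Δ) := by
  rintro _ ⟨i, hi, rfl⟩
  show P.root (g • i) ∈ natSpan P _
  rw [root_smul]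
  exact smul_natSpan P g hi

theorem exists_pairing_pos {S : Set ι} {k : ι} (h : P.root k ∈ natSpan P S) :
    ∃ i ∈ S, 0 < P.pairing k i := by
  have := Fintype.ofFinite ι
  by_contra hc
  push Not at hc
  have hle : B P (P.root k) (P.root k) ≤ 0 := by
    refine natSpan_le P (K :=
      { carrier := {x | B P (P.root k) x ≤ 0}
        add_mem' := fun {x y} hx hy => by
          simp only [Set.mem_setOf_eq, B, map_add] at hx hy ⊢
          omega
        zero_mem' := by simp [B] }) (fun i hi => ?_) h
    show B P (P.root k) (P.root i) ≤ 0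
    by_contra hp
    rw [not_le, B_pos_iff, P.root_coroot'_eq_pairing] at hp
    exact absurd hp (not_lt.mpr (hc i hi))
  linarith [B_self_pos P k]

section Simple

variable {Δ : Set ι} (hΔ : IsSimpleSys P Δ)
include hΔ

omit [Finite ι] in
theorem multiple_of_posOf {k i : ι} {a : ℤ} (hk : k ∈ posOf P Δ) (hi : i ∈ Δ)
    (h : P.root k = a • P.root i) : a = 1 ∨ a = 2 := by
  have ha : 0 ≤ a := by
    obtain ⟨c, hc, hc0, hce⟩ := natSpan_coeff P hk
    have : c = Finsupp.single i a := coeff_unique P hΔ.linInd hc
      (fun b hb => by have := Finsupp.support_single_subset hb; simp_all)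
      (by rw [hce, h, Finsupp.linearCombination_single])
    simpa [this] using hc0 i
  have := multiple_cases P h
  omega

omit [Finite ι] in
theorem refl_of_multiple {k i : ι} {a : ℤ} (h : P.root k = a • P.root i) :
    P.reflectionPerm i k = P.reflectionPerm k k := by
  refine P.root.injective ?_
  rw [root_neg, P.root_reflectionPerm, h, map_zsmul, P.reflection_apply_self, smul_neg]

theorem refl_pos {k i : ι} (hk : k ∈ posOf P Δ) (hi : i ∈ Δ)
    (h : ¬ ∃ a : ℤ, P.root k = a • P.root i) : P.reflectionPerm i k ∈ posOf P Δ := by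
  classical
  obtain ⟨c, hc, hc0, hce⟩ := natSpan_coeff P hk
  obtain ⟨j, hjΔ, hji, hj⟩ : ∃ j ∈ Δ, j ≠ i ∧ 0 < c j := by
    by_contra hcon
    push Not at hcon
    refine h ⟨c i, ?_⟩
    have : c = Finsupp.single i (c i) := by
      ext b
      by_cases hb : b = i
      · subst hb; simp
      · rw [Finsupp.single_eq_of_ne hb]
        by_contra hne
        have hbs := hc (Finsupp.mem_support_iff.mpr hne)
        have := hcon b hbs hb
        have := hc0 b
        omega
    rw [← hce, this, Finsupp.linearCombination_single]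
    simp
  refine (mem_posOf_of_coeff_pos P hΔ (c := c - Finsupp.single i (P.pairing k i)) (j := j) ?_ ?_ ?_).1
  · intro b hb
    rcases Finset.mem_union.mp (Finsupp.support_sub hb) with h | h
    · exact hc h
    · have := Finsupp.support_single_subset h; simp_all
  · rw [map_sub, hce, Finsupp.linearCombination_single, P.root_reflectionPerm,
      P.reflection_apply_root]
  · simpa [Finsupp.single_apply, Ne.symm hji] using hj

omit [Finite ι] in
theorem refl_neg_of_multiple {k i : ι} (hk : k ∈ posOf P Δ) {a : ℤ}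
    (h : P.root k = a • P.root i) : P.reflectionPerm i k ∉ posOf P Δ := by
  rw [refl_of_multiple P hΔ h]
  intro hn
  refine not_neg_posOf P hΔ hk ?_
  simpa [posOf] using hn

theorem exists_proportional_of_neg :
    ∀ (l : List ι), (∀ a ∈ l, a ∈ Δ) → ∀ k ∈ posOf P Δ, word P l • k ∉ posOf P Δ →
      ∃ u b v, l = u ++ b :: v ∧ word P v • k ∈ posOf P Δ ∧
        ∃ a : ℤ, P.root (word P v • k) = a • P.root b := by
  intro l
  induction l with
  | nil => intro _ k hk h; exact absurd (by rwa [word_nil, one_smul]) h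
  | cons b l ih =>
    intro hl k hk h
    by_cases hpos : word P l • k ∈ posOf P Δ
    · refine ⟨[], b, l, rfl, hpos, ?_⟩
      by_contra hne
      apply h
      rw [word_cons, mul_smul, refl_smul_idx]
      exact refl_pos P hΔ hpos (hl b List.mem_cons_self) hne
    · obtain ⟨u, c, v, rfl, hv⟩ := ih (fun a ha => hl a (List.mem_cons_of_mem _ ha)) k hk hpos
      exact ⟨b :: u, c, v, rfl, hv⟩

theorem minWord_last_notMem {D : Set ι} (hD : D ⊆ Δ) {l : List ι} {a : ι}
    (h : IsMinWord P D (l ++ [a])) : word P (l ++ [a]) • a ∉ posOf P Δ := by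
  have := Fintype.ofFinite ι
  intro hpos
  have haΔ : a ∈ Δ := hD (h.1 a (by simp))
  have hl : ∀ b ∈ l, b ∈ Δ := fun b hb => hD (h.1 b (List.mem_append_left _ hb))
  have hwl : word P l • a ∉ posOf P Δ := by
    intro hp
    rw [word_concat, mul_smul, refl_smul_idx, smul_neg_idx] at hpos
    exact (isPosSys_posOf P hΔ).disjoint hp hpos
  obtain ⟨u, b, v, rfl, -, c, hc⟩ :=
    exists_proportional_of_neg P hΔ l hl a (subset_posOf P haΔ) hwl
  have hrefl := refl_eq_of_proportional P (i := b) (j := word P v • a) (a := c) (b := 1)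
    one_ne_zero (by rwa [one_smul])
  rw [← conj_refl, eq_mul_inv_iff_mul_eq] at hrefl
  have he : word P (u ++ v) = word P ((u ++ b :: v) ++ [a]) := by
    rw [word_concat, word_append, word_append, word_cons, hrefl, mul_assoc, mul_assoc,
      refl_mul_self, mul_one]
  have := h.2 (u ++ v) (fun x hx => h.1 x (by simp at hx ⊢; tauto)) he
  simp at this

theorem minWord_last_neg {D : Set ι} (hD : D ⊆ Δ) {l : List ι} {a : ι}
    (h : IsMinWord P D (l ++ [a])) :
    -P.root (word P (l ++ [a]) • a) ∈ natSpan P Δ :=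
  (hΔ.mem_or_neg_mem _).resolve_left (minWord_last_notMem P hΔ hD h)

theorem minWord_last_pos {D : Set ι} (hD : D ⊆ Δ) {l : List ι} {a : ι}
    (h : IsMinWord P D (l ++ [a])) : word P l • a ∈ posOf P Δ := by
  have := minWord_last_notMem P hΔ hD h
  rw [word_concat, mul_smul, refl_smul_idx, smul_neg_idx] at this
  exact ((isPosSys_posOf P hΔ).cover _).resolve_right this

theorem sum_coeff_lt {k : ι} {c : ι →₀ ℤ} {i : ι} {p : ℤ} (hp : 0 < p) :
    ((c - Finsupp.single i p).sum fun _ a => a) < c.sum fun _ a => a := by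
  rw [Finsupp.sum_sub_index (fun _ _ _ => rfl), Finsupp.sum_single_index rfl]
  omega

theorem indiv_conj {k : ι} (hk : IsIndiv P k) :
    ∃ g ∈ Subgroup.closure ((fun i : ι => RootPairing.Equiv.reflection P i) '' Δ),
      ∃ i ∈ Δ, g • i = k := by
  classical
  set W := Subgroup.closure ((fun i : ι => RootPairing.Equiv.reflection P i) '' Δ)
  have key : ∀ (n : ℕ) (k : ι) (c : ι →₀ ℤ), ↑c.support ⊆ Δ → (∀ j, 0 ≤ c j) →
      Finsupp.linearCombination ℤ P.root c = P.root k → IsIndiv P k →
      (c.sum fun _ a => a) ≤ n → ∃ g ∈ W, ∃ i ∈ Δ, g • i = k := by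
    intro n
    induction n with
    | zero =>
      intro k c hc hc0 hce _ hn
      exfalso
      by_cases hz : c = 0
      · exact root_ne_zero P k (by rw [← hce, hz, map_zero])
      · have := coeff_total_pos hc0 hz
        omega
    | succ n ih =>
      intro k c hc hc0 hce hind hn
      by_cases hkΔ : k ∈ Δ
      · exact ⟨1, one_mem _, k, hkΔ, one_smul _ _⟩
      have hkpos : k ∈ posOf P Δ := by
        show P.root k ∈ natSpan P Δ
        rw [← hce]; exact coeff_natSpan P hc hc0
      obtain ⟨i, hi, hp⟩ := exists_pairing_pos P hkpos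
      have hne : ¬ ∃ a : ℤ, P.root k = a • P.root i := by
        rintro ⟨a, ha⟩
        rcases multiple_of_posOf P hΔ hkpos hi ha with rfl | rfl
        · exact hkΔ ((P.root.injective (by rw [ha, one_smul]) : k = i) ▸ hi)
        · exact hind i ha.symm
      have hk' := refl_pos P hΔ hkpos hi hne
      obtain ⟨d, hd, hd0, hde⟩ := natSpan_coeff P hk'
      have hcd : d = c - Finsupp.single i (P.pairing k i) := by
        refine coeff_unique P hΔ.linInd hd ?_ ?_
        · intro b hb
          rcases Finset.mem_union.mp (Finsupp.support_sub hb) with h | h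
          · exact hc h
          · have := Finsupp.support_single_subset h; simp_all
        · rw [hde, map_sub, hce, Finsupp.linearCombination_single, P.root_reflectionPerm,
            P.reflection_apply_root]
      have hlt : (d.sum fun _ a => a) < c.sum fun _ a => a := hcd ▸ sum_coeff_lt P hΔ (k := k) hp
      have hind' : IsIndiv P (P.reflectionPerm i k) :=
        isIndiv_smul P (RootPairing.Equiv.reflection P i) hind
      obtain ⟨g, hg, j, hj, hgj⟩ := ih _ d hd hd0 hde hind' (by omega)
      refine ⟨RootPairing.Equiv.reflection P i * g,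
        mul_mem (Subgroup.subset_closure ⟨i, hi, rfl⟩) hg, j, hj, ?_⟩
      rw [mul_smul, hgj, refl_smul_idx, P.reflectionPerm_self]
  have hpos : ∀ k ∈ posOf P Δ, IsIndiv P k → ∃ g ∈ W, ∃ i ∈ Δ, g • i = k := fun k hk hind => by
    obtain ⟨c, hc, hc0, hce⟩ := natSpan_coeff P (hk : P.root k ∈ natSpan P Δ)
    exact key (c.sum fun _ a => a).toNat k c hc hc0 hce hind (Int.self_le_toNat _)
  rcases (isPosSys_posOf P hΔ).cover k with h | h
  · exact hpos k h hk
  · obtain ⟨g, hg, i, hi, hgi⟩ := hpos _ h (isIndiv_neg P hk)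
    refine ⟨g * RootPairing.Equiv.reflection P i,
      mul_mem hg (Subgroup.subset_closure ⟨i, hi, rfl⟩), i, hi, ?_⟩
    rw [mul_smul, refl_smul_idx, smul_neg_idx, hgi, neg_neg_idx]

theorem closure_simple :
    Subgroup.closure ((fun i : ι => RootPairing.Equiv.reflection P i) '' Δ) = P.weylGroup := by
  have := Fintype.ofFinite ι
  refine le_antisymm (Subgroup.closure_mono (Set.image_subset_range _ _)) ?_
  rw [weylGroup, Subgroup.closure_le]
  rintro _ ⟨k, rfl⟩
  obtain ⟨k', hk', he⟩ : ∃ k', IsIndiv P k' ∧
      RootPairing.Equiv.reflection P k' = RootPairing.Equiv.reflection P k := by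
    by_cases hk : IsIndiv P k
    · exact ⟨k, hk, rfl⟩
    · simp only [IsIndiv, not_forall, not_not] at hk
      obtain ⟨j, hj⟩ := hk
      exact ⟨j, isIndiv_half P hj,
        refl_eq_of_proportional P (a := 2) (b := 1) one_ne_zero (by rw [one_smul, hj])⟩
  obtain ⟨g, hg, i, hi, rfl⟩ := indiv_conj P hΔ hk'
  rw [← he, ← conj_refl]
  exact mul_mem (mul_mem hg (Subgroup.subset_closure ⟨i, hi, rfl⟩)) (inv_mem hg)

theorem eq_one_of_maps_pos {g : P.Aut} (hg : g ∈ P.weylGroup)
    (h : ∀ i ∈ Δ, g • i ∈ posOf P Δ) : g = 1 := by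
  rw [← closure_simple P hΔ] at hg
  obtain ⟨l, hl, rfl⟩ := exists_minWord P hg
  rcases List.eq_nil_or_concat l with rfl | ⟨l', a, rfl⟩
  · rfl
  · rw [List.concat_eq_append] at hl h ⊢
    exact absurd (h a (hl.1 a (by simp))) (minWord_last_notMem P hΔ subset_rfl hl)

end Simple

end Groth.Agent.RootDat.Weyl
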